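import Cfsg.Agent.H27.LyRep.Order
import Cfsg.Agent.H34.Ly.Main

/-!
The order of the presented Lyons group, and faithfulness of its 111-dimensional representation.
-/

set_option autoImplicit false
set_option linter.style.haveILetI false

namespace Cfsg.Agent.H27.LyRep

theorem card_range_le : Nat.card rho.range ≤ Nat.card Cfsg.Spor.Ly := by
  haveI : Finite Cfsg.Spor.Ly := Cfsg.Agent.H34.Ly.finite_ly
  exact Nat.card_le_card_of_surjective _ rho.rangeRestrict_surjective

theorem card_range : Nat.card rho.range = 51765179004000000 := by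
  haveI : Finite Cfsg.Spor.Ly := Cfsg.Agent.H34.Ly.finite_ly
  exact le_antisymm (card_range_le.trans Cfsg.Agent.H34.Ly.card_ly_le)
    (Nat.le_of_dvd Nat.card_pos card_dvd_range)

/-- the order of the presented Lyons group -/
theorem card_ly : Nat.card Cfsg.Spor.Ly = 51765179004000000 :=
  le_antisymm Cfsg.Agent.H34.Ly.card_ly_le (card_range ▸ card_range_le)

theorem rho_injective : Function.Injective rho := by
  haveI : Finite Cfsg.Spor.Ly := Cfsg.Agent.H34.Ly.finite_ly
  have hb : Function.Bijective rho.rangeRestrict :=
    (Nat.bijective_iff_surjective_and_card _).2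
      ⟨rho.rangeRestrict_surjective, by rw [card_ly, card_range]⟩
  exact fun x y h => hb.1 (Subtype.ext h)

/-- the index of `⟨a, b, c, d⟩` -/
theorem index_H4 : LyG2.H4.index = 8835156 := by
  have h := LyG2.H4.index_mul_card
  rw [LyG2.card_H4 of_a_ne_one, card_ly] at h
  refine Nat.eq_of_mul_eq_mul_right (show 0 < 5859000000 by norm_num) (h.trans ?_)
  norm_num

end Cfsg.Agent.H27.LyRep
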