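import Cfsg.Agent.H27.LyRep.Eval

/-!
Kernel checks: the ten matrices are inverse in pairs and satisfy the relators of Ly.
-/

set_option autoImplicit false
set_option maxRecDepth 100000
set_option Elab.async false

namespace Cfsg.Agent.H27.LyRep

open Cfsg.Agent.Compute

theorem pair0 : okPair (mat 0) (mat 1) = true := by decide +kernel

theorem pair1 : okPair (mat 2) (mat 3) = true := by decide +kernel

theorem pair2 : okPair (mat 4) (mat 5) = true := by decide +kernel

theorem pair3 : okPair (mat 6) (mat 7) = true := by decide +kernel

theorem pair4 : okPair (mat 8) (mat 9) = true := by decide +kernel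

theorem rels0 : chkRels 0 15 = true := by decide +kernel

theorem rels1 : chkRels 15 8 = true := by decide +kernel

theorem rels2 : chkRels 23 7 = true := by decide +kernel

theorem rels3 : chkRels 30 3 = true := by decide +kernel

theorem rels4 : chkRels 33 3 = true := by decide +kernel

theorem rels5 : chkRels 36 2 = true := by decide +kernel

theorem rels6 : chkRels 38 34 = true := by decide +kernel

theorem rels7 : chkRels 72 10 = true := by decide +kernel

theorem rels8 : chkRels 82 2 = true := by decide +kernel

theorem rels9 : chkRels 84 2 = true := by decide +kernel

end Cfsg.Agent.H27.LyRep
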