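import Cfsg.Agent.Compute.MatRep

/-!
A faster product for packed `n × n` matrices over `ZMod 5` with 12 bits per entry: columns of the left
factor are cut out with a mask, and the reduction mod 5 acts on all entries at once.
-/

set_option autoImplicit false

namespace Cfsg.Agent.H27.LyRep

open Cfsg.Agent.Compute

/-- the value `c` in each of `n` lanes of width `L` -/
noncomputable def maskN (L c n : ℕ) : ℕ :=
  Nat.mul (Nat.div (Nat.sub (Nat.pow 2 (Nat.mul L n)) 1) (Nat.sub (Nat.pow 2 L) 1)) c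

/-- two lanes of width 12 as one of width 24 -/
def pair (f : ℕ → ℕ) (i : ℕ) : ℕ := f (2 * i) + f (2 * i + 1) * 2 ^ 12

/-- quotients by 5 in the lanes of width 24 -/
noncomputable def quo5 (m x : ℕ) : ℕ :=
  Nat.land (Nat.shiftRight (Nat.mul (Nat.land x (maskN 24 4095 m)) 3277) 14) (maskN 24 1023 m)

/-- every entry (at most 1776) replaced by its residue mod 5 -/
noncomputable def red5 (m x : ℕ) : ℕ :=
  Nat.sub x (Nat.mul 5 (Nat.add (quo5 m x) (Nat.mul (quo5 m (Nat.shiftRight x 12)) 4096)))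

/-- the product before reduction -/
noncomputable def accMat (n a b : ℕ) : ℕ :=
  sumN n (fun l => Nat.mul
    (Nat.land (Nat.shiftRight a (Nat.mul 12 l)) (maskN (Nat.mul 12 n) 4095 n))
    (getP (Nat.mul 12 n) b l))

/-- the product -/
noncomputable def mulF (n a b : ℕ) : ℕ :=
  red5 (Nat.div (Nat.add (Nat.mul n n) 1) 2) (accMat n a b)

theorem packP_mul (w : ℕ) (f : ℕ → ℕ) (c : ℕ) : ∀ n,
    packP w f n * c = packP w (fun i => f i * c) n := by
  intro n
  induction n with
  | zero => simp [packP]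
  | succ k ih => rw [packP_succ, packP_succ, ← ih]; ring

theorem packP_add (w : ℕ) (f g : ℕ → ℕ) : ∀ n,
    packP w f n + packP w g n = packP w (fun i => f i + g i) n := by
  intro n
  induction n with
  | zero => simp [packP]
  | succ k ih => rw [packP_succ, packP_succ, packP_succ, ← ih]; ring

theorem packP_one (L n : ℕ) :
    packP L (fun _ => 1) n * (2 ^ L - 1) + 1 = 2 ^ (L * n) := by
  induction n with
  | zero => simp [packP]
  | succ k ih =>
    rw [packP_succ, Nat.mul_succ, pow_add]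
    obtain ⟨d, hd⟩ : ∃ d, 2 ^ L = d + 1 := ⟨2 ^ L - 1, by have := Nat.two_pow_pos L; omega⟩
    rw [hd, Nat.add_sub_cancel] at ih ⊢
    calc (packP L (fun _ => 1) k + 1 * 2 ^ (L * k)) * d + 1
        = (packP L (fun _ => 1) k * d + 1) + 2 ^ (L * k) * d := by ring
      _ = _ := by rw [ih]; ring

theorem maskN_eq {L : ℕ} (hL : 0 < L) (c n : ℕ) : maskN L c n = packP L (fun _ => c) n := by
  show (2 ^ (L * n) - 1) / (2 ^ L - 1) * c = _
  have h := packP_one L n
  have h2 : 0 < 2 ^ L - 1 := by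
    have : 2 ^ 1 ≤ 2 ^ L := Nat.pow_le_pow_right (by norm_num) hL
    omega
  rw [show 2 ^ (L * n) - 1 = packP L (fun _ => 1) n * (2 ^ L - 1) by omega,
    Nat.mul_div_cancel _ h2, packP_mul]
  simp

theorem and_split (k a b : ℕ) :
    a &&& b = (a % 2 ^ k &&& b % 2 ^ k) + 2 ^ k * (a / 2 ^ k &&& b / 2 ^ k) := by
  rw [← Nat.and_mod_two_pow, ← Nat.and_div_two_pow, Nat.mod_add_div]

theorem land_mask {L w : ℕ} (hL : 0 < L) (hw : w ≤ L) : ∀ n x,
    x &&& maskN L (2 ^ w - 1) n = packP L (fun i => getP L x i % 2 ^ w) n := by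
  intro n x
  rw [maskN_eq hL]
  induction n generalizing x with
  | zero => simp [packP]
  | succ k ih =>
    have hc : 2 ^ w - 1 < 2 ^ L := by
      have := Nat.pow_le_pow_right (show 0 < 2 by norm_num) hw
      have := Nat.two_pow_pos w
      omega
    have hlt : packP L (fun _ => 2 ^ w - 1) k < 2 ^ (L * k) := packP_lt _ _ _ fun _ _ => hc
    rw [packP_succ, packP_succ, and_split (L * k)]
    rw [Nat.add_mul_mod_self_right, Nat.mod_eq_of_lt hlt, Nat.add_mul_div_right _ _ (by positivity),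
      Nat.div_eq_of_lt hlt, Nat.zero_add, ih, Nat.and_two_pow_sub_one_eq_mod,
      packP_congr L k (g := fun i => getP L x i % 2 ^ w) fun i hi => ?_,
      Nat.mul_comm (2 ^ (L * k)), getP_eq, Nat.mod_mod_of_dvd _ (pow_dvd_pow 2 hw)]
    rw [getP_eq, getP_eq]
    obtain ⟨d, rfl⟩ := Nat.exists_eq_add_of_lt hi
    rw [show L * (i + d + 1) = L * i + L * (d + 1) by ring, pow_add, Nat.mod_mul_right_div_self,
      Nat.mod_mod_of_dvd (x / 2 ^ (L * i)) (pow_dvd_pow 2 (Nat.le_mul_of_pos_right L d.succ_pos))]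

theorem getP_div_mod {L s u : ℕ} (h : s + u ≤ L) (x i : ℕ) :
    getP L (x / 2 ^ s) i % 2 ^ u = getP L x i / 2 ^ s % 2 ^ u := by
  obtain ⟨t, rfl⟩ : ∃ t, L = s + t := ⟨L - s, by omega⟩
  rw [getP_eq, getP_eq, Nat.div_div_eq_div_mul, Nat.mul_comm (2 ^ s), ← Nat.div_div_eq_div_mul,
    pow_add, Nat.mod_mul_right_div_self, Nat.mod_mod_of_dvd _ (pow_dvd_pow 2 (by omega)),
    Nat.mod_mod_of_dvd _ (Dvd.dvd.mul_left (pow_dvd_pow 2 (show u ≤ t by omega)) _)]

theorem packP_pair (f : ℕ → ℕ) : ∀ m, packP 24 (pair f) m = packP 12 f (2 * m) := by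
  intro m
  induction m with
  | zero => simp [packP]
  | succ k ih =>
    rw [show 2 * (k + 1) = 2 * k + 1 + 1 by ring, packP_succ, packP_succ, packP_succ, ih, pair,
      show 12 * (2 * k + 1) = 12 + 24 * k by ring, show 12 * (2 * k) = 24 * k by ring, pow_add]
    ring

theorem quo5_eq (m x : ℕ) (h : ∀ i < m, getP 24 x i % 2 ^ 12 ≤ 1776) :
    quo5 m x = packP 24 (fun i => getP 24 x i % 2 ^ 12 / 5) m := by
  show (((x &&& maskN 24 (2 ^ 12 - 1) m) * 3277) >>> 14) &&& maskN 24 (2 ^ 10 - 1) m = _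
  rw [land_mask (by norm_num) (by norm_num), land_mask (by norm_num) (by norm_num)]
  refine packP_congr 24 m fun i hi => ?_
  rw [Nat.shiftRight_eq_div_pow, getP_div_mod (by norm_num), packP_mul,
    getP_packP 24 _ m (fun j hj => by have := h j hj; norm_num at this ⊢; omega) i hi]
  have := h i hi
  generalize getP 24 x i % 2 ^ 12 = v at this
  obtain ⟨q, r, hr, rfl⟩ : ∃ q r, r < 5 ∧ v = 5 * q + r :=
    ⟨v / 5, v % 5, Nat.mod_lt _ (by norm_num), (Nat.div_add_mod v 5).symm⟩
  have e1 : (5 * q + r) / 5 = q := by omega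
  have e2 : (5 * q + r) * 3277 / 2 ^ 14 = q := by
    rw [show (5 * q + r) * 3277 = (q + 3277 * r) + 2 ^ 14 * q by ring,
      Nat.add_mul_div_left _ _ (by norm_num),
      Nat.div_eq_of_lt (by norm_num at this ⊢; omega), Nat.zero_add]
  rw [e1, e2, Nat.mod_eq_of_lt (by norm_num; omega)]

theorem red5_eq {N m : ℕ} (hm : N ≤ 2 * m) (hm' : 2 * m ≤ N + 1) (r : ℕ → ℕ)
    (hr : ∀ k < N, r k ≤ 1776) :
    red5 m (packP 12 r N) = packP 12 (fun k => r k % 5) N := by
  let r' : ℕ → ℕ := fun k => if k < N then r k else 0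
  have hr' : ∀ k, r' k ≤ 1776 := fun k => by
    by_cases hk : k < N <;> simp [r', hk]
    exact hr k hk
  have hext : ∀ g : ℕ → ℕ, g 0 = 0 →
      packP 12 (fun k => g (r k)) N = packP 24 (pair fun k => g (r' k)) m := by
    intro g hg
    rw [packP_pair]
    rcases (by omega : 2 * m = N ∨ 2 * m = N + 1) with e | e <;> rw [e]
    · exact packP_congr 12 N fun k hk => by simp [r', hk]
    · rw [packP_succ]
      simp only [r', lt_irrefl, if_false, hg, Nat.zero_mul, Nat.add_zero]
      exact packP_congr 12 N fun k hk => by simp [hk]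
  have hx : packP 12 r N = packP 24 (pair r') m := hext id rfl
  have hp : ∀ i < m, getP 24 (packP 12 r N) i = pair r' i := by
    rw [hx]
    exact getP_packP 24 _ m fun j _ => by
      have := hr' (2 * j)
      have := hr' (2 * j + 1)
      simp only [pair]; norm_num; omega
  have e0 : ∀ i < m, getP 24 (packP 12 r N) i % 2 ^ 12 = r' (2 * i) := fun i hi => by
    rw [hp i hi]
    have := hr' (2 * i)
    simp only [pair]; norm_num; omega
  have e1 : ∀ i < m, getP 24 (packP 12 r N >>> 12) i % 2 ^ 12 = r' (2 * i + 1) := fun i hi => by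
    rw [Nat.shiftRight_eq_div_pow, getP_div_mod (by norm_num), hp i hi]
    have := hr' (2 * i)
    have := hr' (2 * i + 1)
    simp only [pair]; norm_num; omega
  show packP 12 r N - 5 * (quo5 m (packP 12 r N) + quo5 m (packP 12 r N >>> 12) * 4096) = _
  rw [quo5_eq m _ fun i hi => by rw [e0 i hi]; exact hr' _,
    quo5_eq m _ fun i hi => by rw [e1 i hi]; exact hr' _,
    packP_congr 24 m (f := fun i => getP 24 (packP 12 r N) i % 2 ^ 12 / 5)
      (g := fun i => r' (2 * i) / 5) fun i hi => by rw [e0 i hi],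
    packP_congr 24 m (f := fun i => getP 24 (packP 12 r N >>> 12) i % 2 ^ 12 / 5)
      (g := fun i => r' (2 * i + 1) / 5) fun i hi => by rw [e1 i hi],
    packP_mul, packP_add, Nat.mul_comm 5, packP_mul,
    hext (fun v => v % 5) (by norm_num)]
  refine Nat.sub_eq_of_eq_add ?_
  rw [hx, packP_add]
  refine packP_congr 24 m fun i _ => ?_
  simp only [pair]
  norm_num
  omega

theorem accMat_eq {n : ℕ} (hn : 0 < n) (a b : ℕ) :
    accMat n a b = packP (12 * n) (rowAcc 12 n a b) n := by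
  show sumN n (fun l => ((a >>> (12 * l)) &&& maskN (12 * n) (2 ^ 12 - 1) n) * getP (12 * n) b l) = _
  rw [sumN_eq]
  have hcol : ∀ l : Fin n,
      ((a >>> (12 * (l : ℕ))) &&& maskN (12 * n) (2 ^ 12 - 1) n) * getP (12 * n) b l =
        packP (12 * n) (fun i => getP 12 a (i * n + l) * getP (12 * n) b l) n := fun l => by
    rw [land_mask (by omega) (by nlinarith), packP_mul]
    refine packP_congr _ n fun i _ => ?_
    congr 1
    rw [getP_eq, getP_eq, Nat.shiftRight_eq_div_pow, Nat.div_div_eq_div_mul, ← pow_add,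
      Nat.mod_mod_of_dvd _ (pow_dvd_pow 2 (Nat.le_mul_of_pos_right 12 hn)),
      show 12 * (l : ℕ) + 12 * n * i = 12 * (i * n + l) by ring]
  simp only [hcol]
  have hs : ∀ (F : Fin n → ℕ → ℕ) (k : ℕ),
      ∑ l, packP (12 * n) (F l) k = packP (12 * n) (fun i => ∑ l, F l i) k := by
    intro F k
    induction k with
    | zero => simp [packP]
    | succ k ih => simp only [packP_succ, Finset.sum_add_distrib, ih, Finset.sum_mul]
  rw [hs]
  refine packP_congr _ n fun i _ => ?_
  show _ = sumN n (fun l => getP 12 a (i * n + l) * getP (12 * n) b l)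
  rw [sumN_eq]

theorem mulF_eq {n a b : ℕ} (hn : 0 < n) (hb111 : n ≤ 111) (ha : MatCanon 12 n 5 a)
    (hb : MatCanon 12 n 5 b) : mulF n a b = mulMat 12 n 5 a b := by
  let r : ℕ → ℕ := fun k => ∑ l : Fin n, getP 12 a (k / n * n + l) * getP 12 b (l * n + k % n)
  have hdiv : ∀ k < n * n, k / n < n := fun k hk => (Nat.div_lt_iff_lt_mul hn).2 hk
  have hr : ∀ k < n * n, r k ≤ 1776 := fun k hk => by
    calc r k ≤ ∑ _l : Fin n, 16 := Finset.sum_le_sum fun l _ => by
          have h1 := ha.1 _ (idx_lt (⟨k / n, hdiv k hk⟩ : Fin n) l)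
          have h2 := hb.1 _ (idx_lt l (⟨k % n, Nat.mod_lt _ hn⟩ : Fin n))
          simp only at h1 h2
          calc _ ≤ 4 * 4 := Nat.mul_le_mul (Nat.le_of_lt_succ h1) (Nat.le_of_lt_succ h2)
            _ = 16 := rfl
      _ = n * 16 := by simp
      _ ≤ 1776 := by omega
  have hacc : accMat n a b = packP 12 r (n * n) := by
    rw [accMat_eq hn,
      packP_congr _ n (f := rowAcc 12 n a b) (g := fun i => packP 12
        (fun j => ∑ l : Fin n, getP 12 a (i * n + l) * getP 12 b (l * n + j)) n)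
        fun i _ => rowAcc_eq 12 n a b i,
      packP_nest]
  show red5 ((n * n + 1) / 2) (accMat n a b) = _
  rw [hacc, red5_eq (by omega) (by omega) r hr]
  show _ = packP (12 * n) (fun i => packP 12 (fun j => getP 12 (rowAcc 12 n a b i) j % 5) n) n
  rw [packP_nest]
  refine packP_congr 12 _ fun k hk => ?_
  have hi := hdiv k hk
  rw [rowAcc_eq, getP_packP 12 _ n (fun j hj => ?_) _ (Nat.mod_lt _ hn)]
  have hij : k / n * n + j < n * n := idx_lt (⟨k / n, hi⟩ : Fin n) ⟨j, hj⟩
  have hbd := hr (k / n * n + j) hij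
  have e1 : (k / n * n + j) / n = k / n := (idx_div (⟨k / n, hi⟩ : Fin n) ⟨j, hj⟩).1
  have e2 : (k / n * n + j) % n = j := (idx_div (⟨k / n, hi⟩ : Fin n) ⟨j, hj⟩).2
  simp only [r, e1, e2] at hbd
  omega

end Cfsg.Agent.H27.LyRep
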