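import Mathlib

/-!
The auxiliary generators and the relators of Ly as words in a, b, c, d, z and their inverses (generated data).
-/

set_option autoImplicit false
set_option maxRecDepth 100000

namespace Cfsg.Agent.H27.LyRep

/-- the 39 generators -/
def gword : List (List ℕ) := [
  [0],
  [2],
  [4],
  [6],
  [8],
  [3, 3, 1, 5, 0, 4, 1, 4, 0, 6, 4, 2, 0, 3, 6, 4, 6],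
  [0],
  [2, 0, 3],
  [2, 2, 0, 3, 3],
  [3, 3, 0, 2, 2],
  [4],
  [1, 4, 0],
  [3, 4, 2],
  [2, 4, 3],
  [5, 1, 5, 0, 4, 1, 4, 0],
  [0, 0],
  [6],
  [7],
  [2, 2, 1, 3, 1, 2, 2, 5, 0, 4, 1, 5, 6, 5, 2, 2, 1, 4, 2],
  [0, 2, 1, 2, 2, 1, 2, 2, 5, 0, 4, 2, 4, 3, 6, 4, 3, 3, 6, 4, 2, 4],
  [5, 7, 1, 5, 1, 2, 5, 7],
  [2, 6],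
  [7, 3],
  [1, 3, 1, 2, 5, 3, 0, 5, 2, 0],
  [3, 3, 0, 4, 1, 2, 4, 2],
  [1, 3, 1, 4, 0, 2, 0],
  [3, 1, 2, 4, 3, 0, 2],
  [2, 2, 1, 3, 4, 2, 0, 4, 3, 3, 5],
  [1, 1, 1],
  [2, 1, 3, 1, 1],
  [0, 2, 2, 0, 3, 3, 1],
  [1, 6, 3, 5, 1, 2, 5, 7, 2, 5, 3, 1, 5, 0, 3, 0, 2, 0, 3],
  [0, 3, 3, 1, 4, 2, 5, 2, 1, 5, 5, 6, 4, 0, 4, 1, 4, 3, 7],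
  [2, 0, 3, 1, 3, 3, 1, 3, 4, 2, 2, 4, 2, 6, 4, 3, 3, 6, 4, 2, 4],
  [5, 3, 5, 7, 2, 2, 5, 7, 3, 5, 3, 3, 5, 2, 0, 2, 2, 0, 2, 1, 3],
  [1, 5, 7, 0, 5, 3, 0, 5, 7, 1, 5, 0, 4, 3, 3, 5, 3, 1, 3, 3],
  [1, 5, 7, 2, 1, 3, 5, 7, 2, 1, 3, 5, 3, 0, 3, 3, 0, 3],
  [7, 0, 4, 2, 4, 1, 5, 7, 0, 3, 1, 4, 1, 3, 3, 1, 2, 1],
  [5, 1, 4, 2, 5, 7, 4, 1, 4, 0, 4, 3, 1, 3, 1, 2]]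

/-- the relators -/
def relW : List (List ℕ) := [
  [0, 0, 0, 0, 0, 0, 0, 0],
  [2, 2, 2, 2, 2],
  [0, 2, 0, 2, 0, 2, 0, 2],
  [1, 1, 3, 0, 0, 2],
  [1, 3, 0, 2, 1, 3, 0, 2, 1, 3, 0, 2],
  [],
  [],
  [],
  [],
  [],
  [4, 4, 4, 4, 4],
  [5, 1, 5, 0, 4, 1, 4, 0, 5, 1, 5, 0, 4, 1, 4, 0, 5, 1, 5, 0, 4, 1, 4, 0, 5, 1, 5, 0, 4, 1, 4, 0, 5, 1, 5, 0, 4, 1, 4, 0],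
  [5, 1, 5, 0, 5, 1, 4, 0, 4, 1, 5, 0, 4, 1, 4, 0],
  [1, 5, 5, 0, 5, 1, 4, 0, 4, 1, 4, 0, 5, 1, 5, 0, 4, 1, 4, 0],
  [3, 5, 2, 1, 5, 0, 5, 1, 4, 0, 4, 3, 4, 2, 5, 1, 5, 0, 4, 1, 4, 0],
  [2, 5, 3, 1, 5, 0, 5, 1, 4, 0, 4, 2, 4, 3, 5, 1, 5, 0, 4, 1, 4, 0],
  [5, 3, 5, 2, 4, 3, 4, 2, 5, 1, 5, 0, 4, 1, 4, 0, 5, 1, 5, 0, 4, 1, 4, 0],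
  [5, 2, 5, 3, 4, 2, 4, 3, 1, 5, 0, 5, 1, 4, 0, 4, 1, 5, 0, 5, 1, 4, 0, 4],
  [1, 5, 0, 3, 5, 2, 1, 4, 0, 3, 4, 2, 5, 1, 5, 0, 4, 1, 4, 0],
  [1, 5, 0, 2, 5, 3, 1, 4, 0, 2, 4, 3],
  [3, 5, 2, 2, 5, 3, 3, 4, 2, 2, 4, 3, 5, 1, 5, 0, 4, 1, 4, 0],
  [1, 1, 4, 0, 0, 4, 4],
  [1, 3, 4, 2, 0, 2, 5, 3, 5, 3, 4, 4, 2],
  [1, 2, 4, 3, 0, 2, 5, 3, 5, 2, 5, 3, 3, 4, 2, 1, 4, 0, 5],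
  [1, 5, 1, 5, 0, 4, 1, 4, 0, 5, 0, 5, 1, 4, 0, 4, 1, 5, 0, 5, 1, 4, 0, 4],
  [3, 1, 4, 0, 2, 2, 4, 3, 4, 2, 4, 3, 3, 5, 2, 1, 5, 0],
  [3, 3, 4, 2, 4, 4, 2, 2, 5, 3, 5, 5],
  [3, 5, 1, 5, 0, 4, 1, 4, 0, 2, 1, 5, 0, 5, 1, 4, 0, 4],
  [],
  [3, 3, 1, 5, 0, 4, 1, 4, 0, 6, 4, 2, 0, 3, 6, 4, 6, 3, 3, 1, 5, 0, 4, 1, 4, 0, 6, 4, 2, 0, 3, 6, 4, 6],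
  [7, 5, 7, 2, 1, 3, 5, 7, 1, 5, 0, 5, 1, 4, 0, 2, 2, 4, 3, 3, 1, 5, 0, 4, 1, 4, 0, 6, 4, 2, 0, 3, 6, 4, 6, 4, 3, 3, 5],
  [7, 5, 7, 2, 1, 3, 5, 7, 1, 5, 0, 5, 1, 4, 0, 2, 4, 3, 1, 5, 0, 4, 1, 4, 0, 6, 4, 2, 0, 3, 6, 4, 6, 0, 2, 4, 3, 4, 1, 5, 3, 3],
  [7, 5, 7, 2, 1, 3, 5, 7, 1, 5, 0, 5, 1, 4, 0, 2, 2, 2, 4, 3, 3, 3, 1, 5, 0, 4, 1, 4, 0, 6, 4, 2, 0, 3, 6, 4, 6, 2, 5, 3, 3, 4, 3],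
  [7, 5, 7, 2, 1, 3, 5, 7, 1, 5, 0, 5, 1, 4, 0, 2, 2, 5, 1, 5, 0, 4, 1, 4, 0, 3, 3, 1, 5, 0, 4, 1, 4, 0, 6, 4, 2, 0, 3, 6, 4, 6, 2, 4, 3, 5, 3, 4, 2, 5],
  [3, 3, 1, 5, 0, 4, 1, 4, 0, 6, 4, 2, 0, 3, 6, 4, 6, 0, 0, 3, 3, 1, 5, 0, 4, 1, 4, 0, 6, 4, 2, 0, 3, 6, 4, 6, 2, 4, 3, 1, 5, 0, 5, 1, 4, 2, 1, 3, 3, 1],
  [7, 5, 7, 2, 1, 3, 5, 7, 1, 5, 0, 5, 1, 4, 0, 2, 1, 5, 0, 4, 1, 4, 0, 6, 4, 2, 0, 3, 6, 4, 6, 2, 4, 4, 3, 3, 4, 2, 5],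
  [3, 3, 1, 5, 0, 4, 1, 4, 0, 6, 4, 2, 0, 3, 6, 4, 6, 0, 2, 2, 0, 3, 0, 3, 3, 1, 5, 0, 4, 1, 4, 0, 6, 4, 2, 0, 3, 6, 4, 6, 2, 4, 3, 1, 5, 0, 5, 1, 4, 1],
  [3, 3, 1, 5, 0, 4, 1, 4, 0, 6, 4, 2, 0, 3, 6, 4, 6, 1, 4, 0, 3, 3, 1, 5, 0, 4, 1, 4, 0, 6, 4, 2, 0, 3, 6, 4, 6, 1, 5, 0, 3, 3, 1, 5, 0, 4, 1, 4, 0, 6, 4, 2, 0, 3, 6, 4, 6, 1, 4, 0, 2, 5, 3, 0, 3, 4, 2, 0, 0, 0],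
  [5, 7, 2, 1, 3, 5, 7, 1, 5, 0, 5, 1, 4, 0, 2, 1, 4, 7, 5, 7, 2, 1, 3, 5, 7, 1, 5, 0, 5, 1, 4, 0, 2, 2, 1, 7, 5, 7, 2, 1, 3, 5, 7, 1, 5, 0, 5, 1, 4, 0, 2, 2, 1, 5, 1, 5, 0, 4, 1, 4, 0, 2, 4, 3, 4, 2, 0, 3, 3, 1],
  [6, 6, 1, 1, 1, 1],
  [3, 7, 2, 6],
  [7, 0, 6, 1, 1, 1],
  [6, 5, 1, 5, 0, 4, 1, 4, 0, 6, 5, 1, 5, 0, 4, 1, 4, 0, 6, 5, 1, 5, 0, 4, 1, 4, 0, 6, 5, 1, 5, 0, 4, 1, 4, 0, 6, 5, 1, 5, 0, 4, 1, 4, 0],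
  [6, 5, 1, 5, 0, 4, 1, 4, 0, 6, 1, 5, 0, 5, 1, 4, 0, 4, 6, 5, 1, 5, 0, 4, 1, 4, 1],
  [],
  [],
  [],
  [],
  [],
  [],
  [],
  [],
  [],
  [],
  [],
  [],
  [],
  [],
  [],
  [],
  [],
  [],
  [],
  [],
  [],
  [],
  [],
  [],
  [],
  [],
  [],
  [],
  [9, 4, 8, 1, 3, 4, 1, 2, 4, 3, 0, 2, 0],
  [9, 1, 4, 0, 8, 3, 5, 3, 0, 5, 1, 2, 2],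
  [9, 3, 4, 2, 8, 1, 3, 1, 5, 0, 2, 0],
  [9, 2, 4, 3, 8, 3, 1, 2, 5, 3, 0, 2],
  [9, 5, 1, 5, 0, 4, 1, 4, 0, 8, 4, 2, 2, 5, 1, 3, 5, 2, 0, 3, 3],
  [9, 0, 8, 0, 0, 0],
  [9, 2, 0, 3, 8, 0, 0, 2, 0, 3],
  [9, 2, 2, 0, 3, 3, 8, 0, 2, 2, 1, 3, 3, 1],
  [8, 8, 1, 1],
  [3, 3, 0, 2, 2, 8, 3, 3, 0, 2, 2, 8, 3, 3, 0, 2, 2, 8, 0, 0],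
  [5, 7, 1, 5, 1, 2, 5, 7, 8, 1, 6, 3, 5, 1, 2, 5, 7, 2, 5, 3, 1, 5, 0, 3, 0, 2, 0, 3, 8, 1, 5, 7, 0, 5, 3, 0, 5, 7, 1, 5, 0, 4, 3, 3, 5, 3, 1, 3, 3, 8],
  [9, 7, 9, 1, 5, 7, 2, 1, 3, 5, 7, 2, 1, 3, 5, 3, 0, 3, 3, 0, 3, 8, 6, 8, 0, 2, 1, 2, 2, 1, 2, 2, 5, 0, 4, 2, 4, 3, 6, 4, 3, 3, 6, 4, 2, 4],
  [8, 2, 0, 3, 1, 3, 3, 1, 3, 4, 2, 2, 4, 2, 6, 4, 3, 3, 6, 4, 2, 4, 8, 0, 3, 3, 1, 4, 2, 5, 2, 1, 5, 5, 6, 4, 0, 4, 1, 4, 3, 7, 9, 5, 3, 5, 7, 2, 2, 5, 7, 3, 5, 3, 3, 5, 2, 0, 2, 2, 0, 2, 1, 3, 9, 7, 0, 4, 2, 4, 1, 5, 7, 0, 3, 1, 4, 1, 3, 3, 1, 2, 1],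
  [8, 2, 6, 8, 2, 2, 1, 3, 1, 2, 2, 5, 0, 4, 1, 5, 6, 5, 2, 2, 1, 4, 2, 9, 7, 3, 9, 5, 1, 4, 2, 5, 7, 4, 1, 4, 0, 4, 3, 1, 3, 1, 2]]

end Cfsg.Agent.H27.LyRep
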