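import Cfsg.Agent.H27.LyRep.Engine
import Cfsg.Agent.H27.LyRep.Data
import Cfsg.Agent.H27.LyRep.Words

/-!
Values of words in the 111-dimensional packed matrices.
-/

set_option autoImplicit false

namespace Cfsg.Agent.H27.LyRep

open Cfsg.Agent.Compute

/-- packed identity -/
noncomputable def one111 : ℕ := oneMat 12 111

/-- packed matrix of a letter -/
noncomputable def mat (l : ℕ) : ℕ := List.getD mats l one111

/-- packed value of a word -/
noncomputable def evM (w : List ℕ) : ℕ :=
  List.rec one111 (fun l _ ih => mulF 111 (mat l) ih) w

/-- `a * b` is one, and both entries are canonical -/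
noncomputable def okPair (a b : ℕ) : Bool :=
  validMat 12 111 5 a && validMat 12 111 5 b &&
    Nat.beq (mulF 111 a b) one111 && Nat.beq (mulF 111 b a) one111

/-- relators `k`, …, `k + m - 1` hold -/
noncomputable def chkRels (k m : ℕ) : Bool :=
  allN m (fun i => Nat.beq (evM (relW.getD (Nat.add k i) [])) one111)

end Cfsg.Agent.H27.LyRep
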