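import Cfsg.Agent.H27.LyRep.Check
import Cfsg.Agent.H45.CosetSound
import Cfsg.Prelude.Def_Spor_Ly

/-!
The 111-dimensional representation of the presented Lyons group over the field with five elements;
in particular the presented group is not trivial.
-/

set_option autoImplicit false
set_option maxRecDepth 100000
set_option linter.style.haveILetI false

namespace Cfsg.Agent.H27.LyRep

open Cfsg.Agent.Compute
open Cfsg.Agent.H45 (evalW evalW_cons)
open Cfsg.Spor

local instance : Fact (Nat.Prime 5) := ⟨by norm_num⟩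

/-- invertible 111 by 111 matrices over the field with five elements -/
abbrev GL111 : Type := GL (Fin 111) (ZMod 5)

/-- number of a generator -/
def gidx : Ly.Gen → ℕ
  | Ly.Gen.a => 0
  | Ly.Gen.b => 1
  | Ly.Gen.c => 2
  | Ly.Gen.d => 3
  | Ly.Gen.z => 4
  | Ly.Gen.e => 5
  | Ly.Gen.a1 => 6
  | Ly.Gen.a2 => 7
  | Ly.Gen.a3 => 8
  | Ly.Gen.a4 => 9
  | Ly.Gen.c1 => 10
  | Ly.Gen.c2 => 11
  | Ly.Gen.c3 => 12
  | Ly.Gen.c4 => 13
  | Ly.Gen.c5 => 14
  | Ly.Gen.u => 15
  | Ly.Gen.x23 => 16
  | Ly.Gen.x24 => 17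
  | Ly.Gen.x25 => 18
  | Ly.Gen.x29 => 19
  | Ly.Gen.x47 => 20
  | Ly.Gen.x96 => 21
  | Ly.Gen.x129 => 22
  | Ly.Gen.x162 => 23
  | Ly.Gen.x163 => 24
  | Ly.Gen.x164 => 25
  | Ly.Gen.x165 => 26
  | Ly.Gen.x166 => 27
  | Ly.Gen.x167 => 28
  | Ly.Gen.x168 => 29
  | Ly.Gen.x169 => 30
  | Ly.Gen.x364 => 31
  | Ly.Gen.x365 => 32
  | Ly.Gen.x366 => 33
  | Ly.Gen.x367 => 34
  | Ly.Gen.x368 => 35
  | Ly.Gen.x369 => 36
  | Ly.Gen.x370 => 37
  | Ly.Gen.x371 => 38

/-- letters of the free group on five generators -/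
def fL (l : ℕ) : FreeGroup (Fin 5) :=
  if h : l < 10 then
    cond (Nat.beq (l % 2) 0) (FreeGroup.of ⟨l / 2, by omega⟩) (FreeGroup.of ⟨l / 2, by omega⟩)⁻¹
  else 1

/-- the generators as elements of the free group on a, b, c, d, z -/
def gF (x : Ly.Gen) : FreeGroup (Fin 5) := evalW fL (gword.getD (gidx x) [])

theorem extra_match : ((List.zip Ly.extra relW).all fun p =>
    decide (FreeGroup.lift gF p.1 = evalW fL p.2)) = true := by decide +kernel

theorem extra_len : Ly.extra.length = relW.length := by decide +kernel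

/-- soundness of the packed operations -/
noncomputable def S : Sound (G := GL111) (matOps 12 111 5) :=
  matSound 12 111 5 (by norm_num) (by norm_num) (by norm_num)

theorem okPair_sound {a b : ℕ} (h : okPair a b = true) :
    MatOK 12 111 5 a ∧ MatOK 12 111 5 b ∧ S.den b = (S.den a)⁻¹ := by
  simp only [okPair, Bool.and_eq_true, Nat.beq_eq] at h
  obtain ⟨⟨⟨ha, hb⟩, hab⟩, hba⟩ := h
  have hc : ∀ {x : ℕ}, validMat 12 111 5 x = true → MatCanon 12 111 5 x := fun hx => by
    simp only [validMat, Bool.and_eq_true, allN_iff, Nat.ble_eq, Nat.beq_eq,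
      Nat.add_one_le_iff] at hx
    exact hx
  have e1 := mulF_eq (by norm_num) le_rfl (hc ha) (hc hb)
  have e2 := mulF_eq (by norm_num) le_rfl (hc hb) (hc ha)
  apply S.okInv_sound
  show invMat 12 111 5 a b = true
  simp only [invMat, ha, hb, Bool.and_eq_true, Nat.beq_eq, true_and]
  exact ⟨e1.symm.trans hab, e2.symm.trans hba⟩

/-- the five matrices -/
noncomputable def f5 (i : Fin 5) : GL111 := S.den (mat (2 * i.val))

theorem mat_ge {l : ℕ} (h : 10 ≤ l) : mat l = one111 :=
  List.getD_eq_default _ _ (by simpa [mats] using h)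

theorem mat_ok (l : ℕ) : MatOK 12 111 5 (mat l) ∧
    S.den (mat l) = FreeGroup.lift f5 (fL l) := by
  rcases Nat.lt_or_ge l 10 with h | h
  · interval_cases l
    · exact ⟨(okPair_sound pair0).1, (FreeGroup.lift_apply_of (f := f5) (x := ⟨0, by omega⟩)).symm⟩
    · refine ⟨(okPair_sound pair0).2.1, (okPair_sound pair0).2.2.trans ?_⟩
      exact ((map_inv (FreeGroup.lift f5) _).trans (congrArg (·⁻¹) (FreeGroup.lift_apply_of (f := f5) (x := ⟨0, by omega⟩)))).symm
    · exact ⟨(okPair_sound pair1).1, (FreeGroup.lift_apply_of (f := f5) (x := ⟨1, by omega⟩)).symm⟩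
    · refine ⟨(okPair_sound pair1).2.1, (okPair_sound pair1).2.2.trans ?_⟩
      exact ((map_inv (FreeGroup.lift f5) _).trans (congrArg (·⁻¹) (FreeGroup.lift_apply_of (f := f5) (x := ⟨1, by omega⟩)))).symm
    · exact ⟨(okPair_sound pair2).1, (FreeGroup.lift_apply_of (f := f5) (x := ⟨2, by omega⟩)).symm⟩
    · refine ⟨(okPair_sound pair2).2.1, (okPair_sound pair2).2.2.trans ?_⟩
      exact ((map_inv (FreeGroup.lift f5) _).trans (congrArg (·⁻¹) (FreeGroup.lift_apply_of (f := f5) (x := ⟨2, by omega⟩)))).symm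
    · exact ⟨(okPair_sound pair3).1, (FreeGroup.lift_apply_of (f := f5) (x := ⟨3, by omega⟩)).symm⟩
    · refine ⟨(okPair_sound pair3).2.1, (okPair_sound pair3).2.2.trans ?_⟩
      exact ((map_inv (FreeGroup.lift f5) _).trans (congrArg (·⁻¹) (FreeGroup.lift_apply_of (f := f5) (x := ⟨3, by omega⟩)))).symm
    · exact ⟨(okPair_sound pair4).1, (FreeGroup.lift_apply_of (f := f5) (x := ⟨4, by omega⟩)).symm⟩
    · refine ⟨(okPair_sound pair4).2.1, (okPair_sound pair4).2.2.trans ?_⟩
      exact ((map_inv (FreeGroup.lift f5) _).trans (congrArg (·⁻¹) (FreeGroup.lift_apply_of (f := f5) (x := ⟨4, by omega⟩)))).symm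
  · rw [mat_ge h, fL, dif_neg (by omega), map_one]
    exact ⟨matOK_one (by norm_num) (by norm_num), S.den_one⟩

theorem mul_ok_gen {w n q a b : ℕ} (hq : q ≤ 2 ^ w) (hq1 : 1 < q) (hnq : n * (q - 1) ^ 2 < 2 ^ w)
    (ha : MatOK w n q a) (hb : MatOK w n q b) :
    MatOK w n q (mulMat w n q a b) ∧ (matSound w n q hq hq1 hnq).den (mulMat w n q a b) =
      (matSound w n q hq hq1 hnq).den a * (matSound w n q hq hq1 hnq).den b :=
  ⟨(matSound w n q hq hq1 hnq).ok_mul ha hb, (matSound w n q hq hq1 hnq).den_mul ha hb⟩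

theorem evM_ok : ∀ w : List ℕ, MatOK 12 111 5 (evM w) ∧
    S.den (evM w) = FreeGroup.lift f5 (evalW fL w) := by
  intro w
  induction w with
  | nil => exact ⟨matOK_one (by norm_num) (by norm_num), S.den_one.trans (map_one _).symm⟩
  | cons l t ih =>
    have e : evM (l :: t) = mulMat 12 111 5 (mat l) (evM t) :=
      mulF_eq (by norm_num) le_rfl (mat_ok l).1.1 ih.1.1
    rw [e, evalW_cons, map_mul, ← (mat_ok l).2, ← ih.2]
    exact mul_ok_gen _ _ _ (mat_ok l).1 ih.1

theorem relW_one (j : ℕ) (hj : j < 86) :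
    FreeGroup.lift f5 (evalW fL (relW.getD j [])) = 1 := by
  have key : ∀ k m : ℕ, chkRels k m = true → k ≤ j → j < k + m →
      Nat.beq (evM (relW.getD j [])) one111 = true := by
    intro k m h h1 h2
    have := (allN_iff _ _).1 h (j - k) (by omega)
    rwa [show Nat.add k (j - k) = j from Nat.add_sub_cancel' h1] at this
  have hv : Nat.beq (evM (relW.getD j [])) one111 = true := by
    by_cases c0 : j < 15
    · exact key _ _ rels0 (by omega) (by omega)
    by_cases c1 : j < 23
    · exact key _ _ rels1 (by omega) (by omega)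
    by_cases c2 : j < 30
    · exact key _ _ rels2 (by omega) (by omega)
    by_cases c3 : j < 33
    · exact key _ _ rels3 (by omega) (by omega)
    by_cases c4 : j < 36
    · exact key _ _ rels4 (by omega) (by omega)
    by_cases c5 : j < 38
    · exact key _ _ rels5 (by omega) (by omega)
    by_cases c6 : j < 72
    · exact key _ _ rels6 (by omega) (by omega)
    by_cases c7 : j < 82
    · exact key _ _ rels7 (by omega) (by omega)
    by_cases c8 : j < 84
    · exact key _ _ rels8 (by omega) (by omega)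
    exact key _ _ rels9 (by omega) (by omega)
  rw [← (evM_ok _).2, Nat.eq_of_beq_eq_true hv]
  exact S.den_one

/-- images of the 39 generators -/
noncomputable def fG (x : Ly.Gen) : GL111 := FreeGroup.lift f5 (gF x)

theorem fG_rels : ∀ r ∈ coxRelators Ly.edges ∪ {r | r ∈ Ly.extra}, FreeGroup.lift fG r = 1 := by
  rintro r (hr | hr)
  · simp [coxRelators, coxNodes, Ly.edges] at hr
  · obtain ⟨i, hi, rfl⟩ := List.getElem_of_mem hr
    have hi' : i < relW.length := extra_len ▸ hi
    have e : FreeGroup.lift fG = (FreeGroup.lift f5).comp (FreeGroup.lift gF) := by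
      ext x; simp [fG]
    have hm := List.all_eq_true.mp extra_match (Ly.extra[i], relW[i])
      (List.mem_iff_getElem.mpr ⟨i, by rw [List.length_zip]; omega, List.getElem_zip⟩)
    rw [decide_eq_true_eq] at hm
    dsimp only at hm
    rw [e, MonoidHom.comp_apply]
    exact (congrArg _ (hm.trans (congrArg (evalW fL) (List.getD_eq_getElem relW [] hi').symm))).trans
      (relW_one i (lt_of_lt_of_le hi' (le_of_eq (by decide))))

/-- the representation -/
noncomputable def rho : Cfsg.Spor.Ly →* GL111 := PresentedGroup.toGroup fG_rels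

theorem rho_of (x : Ly.Gen) : rho (PresentedGroup.of x) = fG x := PresentedGroup.toGroup.of fG_rels

theorem mat0_ne : Nat.beq (mat 0) one111 = false := by decide +kernel

/-- `a` acts nontrivially -/
theorem fa_ne : fG Ly.Gen.a ≠ 1 := by
  intro h1
  have h2 : S.den (mat 0) = 1 := by
    rw [(mat_ok 0).2, ← h1, fG, gF]
    simp [gidx, gword, evalW]
  have h3 := (S.eqv_iff (mat_ok 0).1 S.ok_one).2 (h2.trans S.den_one.symm)
  have : Nat.beq (mat 0) one111 = true := h3
  rw [mat0_ne] at this
  exact Bool.noConfusion this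

/-- `a` is not trivial in the presented Lyons group -/
theorem of_a_ne_one : (PresentedGroup.of Ly.Gen.a : Cfsg.Spor.Ly) ≠ 1 := fun h =>
  fa_ne (by rw [← rho_of, h, map_one])

end Cfsg.Agent.H27.LyRep
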