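import Cfsg.Agent.H27.LyRep.Main

/-!
Certified orbits of packed row vectors under packed matrices from the image of Ly, and straight line
programs for elements of that image.
-/

set_option autoImplicit false
set_option maxRecDepth 100000
set_option linter.style.haveILetI false

namespace Cfsg.Agent.H27.LyRep

open Cfsg.Agent.Compute
open Cfsg.Spor
open Pointwise

local instance : Fact (Nat.Prime 5) := ⟨by norm_num⟩

/-- row vectors -/
abbrev V111 : Type := Fin 111 → ZMod 5

/-- a packed matrix from the image of Ly -/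
def InR (x : ℕ) : Prop := MatOK 12 111 5 x ∧ S.den x ∈ rho.range

theorem inR_mul {a b : ℕ} (ha : InR a) (hb : InR b) : InR (mulF 111 a b) := by
  have hm := mul_ok_gen (w := 12) (n := 111) (q := 5) (by norm_num) (by norm_num) (by norm_num)
    ha.1 hb.1
  unfold InR
  rw [mulF_eq (by norm_num) le_rfl ha.1.1 hb.1.1]
  refine ⟨hm.1, ?_⟩
  unfold S
  rw [hm.2]
  exact mul_mem ha.2 hb.2

theorem inR_one : InR one111 :=
  ⟨matOK_one (by norm_num) (by norm_num), by rw [show S.den one111 = 1 from S.den_one]; exact one_mem _⟩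

theorem inR_gen (g : Ly.Gen) (l : ℕ) (h : gF g = fL l) : InR (mat l) := by
  refine ⟨(mat_ok l).1, PresentedGroup.of g, ?_⟩
  rw [rho_of, fG, h, (mat_ok l).2]

/-- the matrices of a, b, c, d, z -/
noncomputable def baseG : List ℕ := [mat 0, mat 2, mat 4, mat 6, mat 8]

theorem inR_baseG : ∀ x ∈ baseG, InR x := by
  intro x hx
  simp only [baseG, List.mem_cons, List.not_mem_nil, or_false] at hx
  rcases hx with rfl | rfl | rfl | rfl | rfl
  · exact inR_gen .a 0 (by decide +kernel)
  · exact inR_gen .b 2 (by decide +kernel)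
  · exact inR_gen .c 4 (by decide +kernel)
  · exact inR_gen .d 6 (by decide +kernel)
  · exact inR_gen .z 8 (by decide +kernel)

/-- straight line program: each step appends the product of two entries -/
noncomputable def evalS (ops : List (ℕ × ℕ)) : List ℕ → List ℕ :=
  List.rec (fun acc => acc)
    (fun ij _ ih acc => ih (acc ++ [mulF 111 (acc.getD ij.1 one111) (acc.getD ij.2 one111)])) ops

/-- the listed results of a program -/
noncomputable def slpOK (base : List ℕ) (ops : List (ℕ × ℕ)) (idx : List ℕ) (out : List ℕ) : Bool :=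
  allN out.length (fun i => Nat.beq ((evalS ops base).getD (idx.getD i 0) one111) (out.getD i one111))

theorem inR_getD {l : List ℕ} (h : ∀ x ∈ l, InR x) (i : ℕ) : InR (l.getD i one111) := by
  rcases Nat.lt_or_ge i l.length with hi | hi
  · rw [List.getD_eq_getElem _ _ hi]; exact h _ (List.getElem_mem hi)
  · rw [List.getD_eq_default _ _ hi]; exact inR_one

theorem inR_evalS : ∀ (ops : List (ℕ × ℕ)) (acc : List ℕ), (∀ x ∈ acc, InR x) →
    ∀ x ∈ evalS ops acc, InR x := by
  intro ops
  induction ops with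
  | nil => intro acc h; exact h
  | cons ij t ih =>
    intro acc h
    refine ih (acc ++ [mulF 111 (acc.getD ij.1 one111) (acc.getD ij.2 one111)]) ?_
    intro x hx
    rw [List.mem_append, List.mem_singleton] at hx
    rcases hx with hx | rfl
    · exact h x hx
    · exact inR_mul (inR_getD h _) (inR_getD h _)

theorem inR_of_slpOK {base out idx : List ℕ} {ops : List (ℕ × ℕ)} (h : ∀ x ∈ base, InR x)
    (hok : slpOK base ops idx out = true) : ∀ x ∈ out, InR x := by
  intro x hx
  obtain ⟨i, hi, rfl⟩ := List.getElem_of_mem hx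
  have := Nat.eq_of_beq_eq_true ((allN_iff _ _).1 hok i hi)
  rw [← List.getD_eq_getElem out one111 hi, ← this]
  exact inR_getD (inR_evalS ops base h) _

/-- a packed vector times a packed matrix -/
noncomputable def vecF (v A : ℕ) : ℕ := red5 56 (rowAcc 12 111 v A 0)

/-- the vector of a packed number -/
noncomputable def toVec (v : ℕ) : V111 := fun j => (getP 12 v j : ZMod 5)

/-- canonical packed vector -/
noncomputable def vcan (v : ℕ) : Bool :=
  Nat.beq (packP 12 (fun j => Nat.mod (getP 12 v j) 5) 111) v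

theorem vcan_lt {v : ℕ} (h : vcan v = true) : ∀ j < 111, getP 12 v j < 5 := by
  intro j hj
  have e := Nat.eq_of_beq_eq_true h
  conv_lhs => rw [← e]
  rw [getP_packP 12 (fun k => Nat.mod (getP 12 v k) 5) 111
    (fun k _ => lt_trans (Nat.mod_lt _ (show 0 < 5 by norm_num)) (by norm_num)) j hj]
  exact Nat.mod_lt _ (by norm_num)

theorem toVec_inj {v w : ℕ} (hv : vcan v = true) (hw : vcan w = true) (h : toVec v = toVec w) :
    v = w := by
  rw [← Nat.eq_of_beq_eq_true hv, ← Nat.eq_of_beq_eq_true hw]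
  refine packP_congr 12 111 fun j hj => ?_
  exact (ZMod.natCast_eq_natCast_iff' _ _ 5).1 (congrFun h ⟨j, hj⟩)

theorem toVec_vecF {v A : ℕ} (hv : vcan v = true) (hA : MatOK 12 111 5 A) :
    toVec (vecF v A) = Matrix.vecMul (toVec v) (S.den A : Matrix (Fin 111) (Fin 111) (ZMod 5)) := by
  have hd : (S.den A : Matrix (Fin 111) (Fin 111) (ZMod 5)) = toMat 12 111 5 A := matDen_coe hA
  have hb : ∀ j < 111, ∑ l : Fin 111, getP 12 v (0 * 111 + l) * getP 12 A (l * 111 + j) ≤ 1776 := by
    intro j hj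
    calc _ ≤ ∑ _l : Fin 111, 16 := Finset.sum_le_sum fun l _ => by
          have h1 := vcan_lt hv l l.2
          have h2 := hA.1.1 _ (idx_lt l ⟨j, hj⟩)
          simp only at h2
          rw [show 0 * 111 + (l : ℕ) = l by omega]
          calc _ ≤ 4 * 4 := Nat.mul_le_mul (Nat.le_of_lt_succ h1) (Nat.le_of_lt_succ h2)
            _ = 16 := rfl
      _ = 1776 := by simp
  have e : vecF v A = packP 12
      (fun j => (∑ l : Fin 111, getP 12 v (0 * 111 + l) * getP 12 A (l * 111 + j)) % 5) 111 := by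
    show red5 56 (rowAcc 12 111 v A 0) = _
    rw [rowAcc_eq, red5_eq (by norm_num) (by norm_num) _ hb]
  funext j
  rw [toVec, e, getP_packP 12 _ 111 (fun k _ => lt_trans (Nat.mod_lt _ (by norm_num)) (by norm_num))
    _ j.2, ZMod.natCast_mod, Nat.cast_sum, hd, Matrix.vecMul, dotProduct]
  refine Finset.sum_congr rfl fun l _ => ?_
  rw [Nat.cast_mul, show 0 * 111 + (l : ℕ) = l by omega]
  rfl

/-- orbit data: generators, vectors in blocks of 32, images, parents `p * 8 + k`, increasing order -/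
structure Orb where
  ng : ℕ
  gens : List ℕ
  n : ℕ
  vs : List (List ℕ)
  img : List (List (List ℕ))
  par : List (List ℕ)
  srt : List (List ℕ)

/-- entry of a table in blocks of 32 -/
noncomputable def get2 (t : List (List ℕ)) (x : ℕ) : ℕ :=
  (t.getD (Nat.div x 32) []).getD (Nat.mod x 32) 0

/-- vector number `x` -/
noncomputable def Orb.v (O : Orb) (x : ℕ) : ℕ := get2 O.vs x

/-- generator number `k` -/
noncomputable def Orb.g (O : Orb) (k : ℕ) : ℕ := O.gens.getD k one111

/-- the checks at one vector -/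
noncomputable def Orb.at' (O : Orb) (x : ℕ) : Bool :=
  vcan (O.v x) && Nat.blt (get2 O.srt x) O.n &&
    allN O.ng (fun k =>
      let y := ((O.img.getD (Nat.div x 32) []).getD (Nat.mod x 32) []).getD k 0
      Nat.blt y O.n && Nat.beq (vecF (O.v x) (O.g k)) (O.v y)) &&
    (Nat.beq x 0 || (Nat.blt (Nat.div (get2 O.par x) 8) x && Nat.blt (Nat.mod (get2 O.par x) 8) O.ng &&
      Nat.beq (vecF (O.v (Nat.div (get2 O.par x) 8)) (O.g (Nat.mod (get2 O.par x) 8))) (O.v x))) &&
    (Nat.beq (Nat.add x 1) O.n ||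
      Nat.blt (O.v (get2 O.srt x)) (O.v (get2 O.srt (Nat.add x 1))))

/-- the checks at `m` vectors from `k` on -/
noncomputable def Orb.chk (O : Orb) (k m : ℕ) : Bool := allN m (fun i => O.at' (Nat.add k i))

/-- the group generated by the first `ng` generators -/
noncomputable def Orb.grp (O : Orb) : Subgroup GL111 :=
  Subgroup.closure {x | ∃ k < O.ng, x = (S.den (O.g k))⁻¹}

theorem Orb.grp_le (O : Orb) (hg : ∀ x ∈ O.gens, InR x) : O.grp ≤ rho.range := by
  rw [Orb.grp, Subgroup.closure_le]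
  rintro _ ⟨k, -, rfl⟩
  exact inv_mem (inR_getD hg k).2

section
variable {M X : Type*} [Group M] [MulAction M X]

/-- a closed and connected list of distinct points is an orbit -/
theorem orbit_dvd (K : Subgroup M) [Finite M] (gens : Set M) (hK : K = Subgroup.closure gens) (n : ℕ)
    (w : Fin n → X) (hinj : Function.Injective w) (i₀ : Fin n)
    (hclosed : ∀ s ∈ gens, ∀ i, s • w i ∈ Set.range w)
    (hreach : ∀ i, ∃ k ∈ K, k • w i₀ = w i)
    (T : Subgroup M) (hT : T ≤ K) (hfix : ∀ t ∈ T, t • w i₀ = w i₀) :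
    n * Nat.card T ∣ Nat.card K := by
  have hst : K ≤ MulAction.stabilizer M (Set.range w) := by
    rw [hK, Subgroup.closure_le]
    intro s hs
    rw [SetLike.mem_coe, MulAction.mem_stabilizer_iff]
    refine Set.eq_of_subset_of_ncard_le ?_ ?_ (Set.finite_range w)
    · rintro _ ⟨_, ⟨i, rfl⟩, rfl⟩; exact hclosed s hs i
    · exact (Set.ncard_image_of_injective (Set.range w) (MulAction.injective s)).ge
  have horb : MulAction.orbit K (w i₀) = Set.range w := by
    apply Set.Subset.antisymm
    · rintro _ ⟨⟨t, ht⟩, rfl⟩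
      have h := MulAction.mem_stabilizer_iff.1 (hst ht)
      rw [← h]
      exact Set.smul_mem_smul_set ⟨i₀, rfl⟩
    · rintro _ ⟨i, rfl⟩
      obtain ⟨k, hk, e⟩ := hreach i
      exact ⟨⟨k, hk⟩, e⟩
  have hos : Nat.card K = n * Nat.card (MulAction.stabilizer K (w i₀)) := by
    rw [show n = Nat.card (MulAction.orbit K (w i₀)) by
      rw [horb, Nat.card_range_of_injective hinj, Nat.card_fin], ← Nat.card_prod]
    exact Nat.card_congr (MulAction.orbitProdStabilizerEquivGroup K (w i₀)).symm
  rw [hos]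
  refine Nat.mul_dvd_mul_left _ ?_
  have hle : T.subgroupOf K ≤ MulAction.stabilizer K (w i₀) := fun t ht =>
    MulAction.mem_stabilizer_iff.2 (hfix _ (Subgroup.mem_subgroupOf.1 ht))
  rw [← Nat.card_congr (Subgroup.subgroupOfEquivOfLe hT).toEquiv]
  exact Subgroup.card_dvd_of_le hle

end

/-- row vectors, with `g` sending `v` to `v * g⁻¹` -/
structure RowVec where
  /-- the coordinates -/
  val : V111

/-- `v * g⁻¹` -/
noncomputable def rowAct (g : GL111) (v : RowVec) : RowVec :=
  ⟨Matrix.vecMul v.val (g⁻¹ : GL111).val⟩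

noncomputable instance : MulAction GL111 RowVec where
  smul := rowAct
  one_smul v := by
    show RowVec.mk (Matrix.vecMul v.val ((1 : GL111)⁻¹ : GL111).val) = v
    rw [inv_one, Units.val_one, Matrix.vecMul_one]
  mul_smul g h v := congrArg RowVec.mk (by
    show _ = Matrix.vecMul (Matrix.vecMul v.val (h⁻¹ : GL111).val) (g⁻¹ : GL111).val
    rw [Matrix.vecMul_vecMul, mul_inv_rev, Units.val_mul])

/-- the row vector of a packed number -/
noncomputable def toW (v : ℕ) : RowVec := ⟨toVec v⟩

theorem toW_inj {v w : ℕ} (hv : vcan v = true) (hw : vcan w = true) (h : toW v = toW w) : v = w :=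
  toVec_inj hv hw (RowVec.mk.injEq _ _ ▸ h)

theorem rowAct_inv (g : GL111) (v : RowVec) : g⁻¹ • v = ⟨Matrix.vecMul v.val g.val⟩ := by
  show rowAct g⁻¹ v = _
  rw [rowAct, inv_inv]

attribute [local irreducible] S rowAct

theorem vecAct_den_inv {v A : ℕ} (hv : vcan v = true) (hA : MatOK 12 111 5 A) :
    (S.den A)⁻¹ • toW v = toW (vecF v A) := by
  rw [rowAct_inv, toW, toW, toVec_vecF hv hA]

/-- the base vector of an orbit is fixed by `T`: the orbit length times `|T|` divides the group order -/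
theorem Orb.mul_dvd (O : Orb) (hn : 0 < O.n) (hg : ∀ x ∈ O.gens, InR x)
    (hat : ∀ x < O.n, O.at' x = true) (T : Subgroup GL111) (hT : T ≤ O.grp)
    (hfix : ∀ t ∈ T, t • toW (O.v 0) = toW (O.v 0)) :
    O.n * Nat.card T ∣ Nat.card O.grp := by
  have H : ∀ x, x < O.n → vcan (O.v x) = true ∧ get2 O.srt x < O.n ∧
      (∀ k < O.ng, ∃ y < O.n, vecF (O.v x) (O.g k) = O.v y) ∧
      (x = 0 ∨ ∃ p k, p < x ∧ k < O.ng ∧ vecF (O.v p) (O.g k) = O.v x) ∧
      (x + 1 = O.n ∨ O.v (get2 O.srt x) < O.v (get2 O.srt (x + 1))) := by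
    intro x hx
    have h := hat x hx
    simp only [Orb.at', Bool.and_eq_true, Bool.or_eq_true, allN_iff, Nat.beq_eq, Nat.blt_eq] at h
    obtain ⟨⟨⟨⟨h1, h2⟩, h3⟩, h4⟩, h5⟩ := h
    refine ⟨h1, h2, fun k hk => ⟨_, (h3 k hk).1, (h3 k hk).2⟩, ?_, h5⟩
    rcases h4 with h4 | ⟨⟨a, b⟩, c⟩
    · exact Or.inl h4
    · exact Or.inr ⟨_, _, a, b, c⟩
  have hmono : StrictMono (fun i : Fin O.n => O.v (get2 O.srt i)) := by
    have key : ∀ d a : ℕ, a + d + 1 < O.n →
        O.v (get2 O.srt a) < O.v (get2 O.srt (a + d + 1)) := by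
      intro d
      induction d with
      | zero => intro a ha; exact ((H a (by omega)).2.2.2.2).resolve_left (by omega)
      | succ d ih =>
        intro a ha
        exact lt_trans (ih a (by omega)) (((H (a + d + 1) (by omega)).2.2.2.2).resolve_left (by omega))
    intro i j hij
    obtain ⟨d, hd⟩ := Nat.exists_eq_add_of_lt (Fin.lt_def.1 hij)
    have := key d i (by omega)
    rwa [← hd] at this
  let σ : Fin O.n → Fin O.n := fun i => ⟨get2 O.srt i, (H i i.2).2.1⟩
  have hσi : Function.Injective σ := fun i j h => by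
    have h' : get2 O.srt (i : ℕ) = get2 O.srt (j : ℕ) := Fin.ext_iff.1 h
    exact hmono.injective (congrArg O.v h')
  have hinj : Function.Injective (fun i : Fin O.n => toW (O.v i)) := by
    intro i j h
    obtain ⟨i', rfl⟩ := (Finite.injective_iff_surjective.1 hσi) i
    obtain ⟨j', rfl⟩ := (Finite.injective_iff_surjective.1 hσi) j
    exact congrArg σ (hmono.injective
      (toW_inj (H _ (σ i').2).1 (H _ (σ j').2).1 h))
  refine orbit_dvd O.grp _ rfl O.n _ hinj ⟨0, hn⟩ ?_ ?_ T hT hfix
  · rintro _ ⟨k, hk, rfl⟩ i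
    obtain ⟨y, hy, e⟩ := (H i i.2).2.2.1 k hk
    exact ⟨⟨y, hy⟩, ((vecAct_den_inv (A := O.g k) (H i i.2).1 (inR_getD hg k).1).trans
      (congrArg toW e)).symm⟩
  · rintro ⟨i, hi⟩
    induction i using Nat.strong_induction_on with
    | _ x ih =>
      rcases (H x hi).2.2.2.1 with rfl | ⟨p, k, hp, hk, e⟩
      · exact ⟨1, one_mem _, one_smul _ _⟩
      · obtain ⟨g, hgm, hgv⟩ := ih p hp (hp.trans hi)
        exact ⟨(S.den (O.g k))⁻¹ * g, mul_mem (Subgroup.subset_closure ⟨k, hk, rfl⟩) hgm,
          by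
          rw [mul_smul, hgv]
          exact (vecAct_den_inv (A := O.g k) (H p (hp.trans hi)).1 (inR_getD hg k).1).trans
            (congrArg toW e)⟩

theorem Orb.n_dvd (O : Orb) (hn : 0 < O.n) (hg : ∀ x ∈ O.gens, InR x)
    (hat : ∀ x < O.n, O.at' x = true) : O.n ∣ Nat.card rho.range := by
  have := O.mul_dvd hn hg hat ⊥ bot_le (fun t ht => by
    rw [Subgroup.mem_bot.1 ht]; exact one_smul _ _)
  rw [Subgroup.card_bot, mul_one] at this
  exact this.trans (Subgroup.card_dvd_of_le (O.grp_le hg))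

theorem all_of_chunks {P : ℕ → Bool} {n : ℕ} (cs : List (ℕ × ℕ))
    (h : ∀ c ∈ cs, allN c.2 (fun i => P (Nat.add c.1 i)) = true)
    (hc : allN n (fun x => cs.any fun c => Nat.ble c.1 x && Nat.blt x (c.1 + c.2)) = true) :
    ∀ x < n, P x = true := by
  intro x hx
  obtain ⟨c, hc1, hc2⟩ := List.any_eq_true.1 ((allN_iff _ _).1 hc x hx)
  simp only [Bool.and_eq_true, Nat.ble_eq, Nat.blt_eq] at hc2
  have := (allN_iff _ _).1 (h c hc1) (x - c.1) (by omega)
  rwa [show Nat.add c.1 (x - c.1) = x from Nat.add_sub_cancel' hc2.1] at this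

end Cfsg.Agent.H27.LyRep
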