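import Cfsg.Agent.H27.LyRep.Orbit
import Cfsg.Agent.H27.LyRep.OrbitData

/-!
Kernel checks of the orbit tables.
-/

set_option autoImplicit false
set_option maxRecDepth 100000
set_option Elab.async false

namespace Cfsg.Agent.H27.LyRep

theorem o2_ok0 : o2.chk 0 150 = true := by decide +kernel

theorem o2_ok1 : o2.chk 150 106 = true := by decide +kernel

theorem o3a_ok0 : o3a.chk 0 3 = true := by decide +kernel

theorem o3b_ok0 : o3b.chk 0 150 = true := by decide +kernel

theorem o3b_ok1 : o3b.chk 150 150 = true := by decide +kernel

theorem o3b_ok2 : o3b.chk 300 150 = true := by decide +kernel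

theorem o3b_ok3 : o3b.chk 450 150 = true := by decide +kernel

theorem o3b_ok4 : o3b.chk 600 129 = true := by decide +kernel

theorem o11_ok0 : o11.chk 0 22 = true := by decide +kernel

theorem o37_ok0 : o37.chk 0 37 = true := by decide +kernel

theorem o67_ok0 : o67.chk 0 67 = true := by decide +kernel

theorem o3b_fix : Nat.beq (vecF (o3b.v 0) (o3b.g 0)) (o3b.v 0) = true := by decide +kernel

end Cfsg.Agent.H27.LyRep
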