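import Cfsg.Agent.H27.LyRep.Slp
import Cfsg.Agent.H27.LyRep.OrbitCheck
import Cfsg.Agent.H27.LyG2.Main

/-!
Divisors of the order of the image of Ly in its 111-dimensional representation.
-/

set_option autoImplicit false
set_option maxRecDepth 100000
set_option linter.style.haveILetI false

namespace Cfsg.Agent.H27.LyRep

open Cfsg.Agent.Compute
open Cfsg.Spor

local instance : Fact (Nat.Prime 5) := ⟨by norm_num⟩

attribute [local irreducible] S

theorem inR_p2 : ∀ x ∈ [w0, w1, w2], InR x := inR_of_slpOK inR_baseG slp0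

theorem inR_mid : ∀ x ∈ [mat 4, mat 6, mat 2, w3, w4, w5, w6, w7, w8, w9, w10, w11, w12, w13, w14, w15, w16, w17, w18, w19, w20, w21, w22], InR x := inR_of_slpOK inR_baseG slp1

theorem inR_p3 : ∀ x ∈ [w23, w24, w25], InR x := inR_of_slpOK inR_mid slp2

theorem o2_at : ∀ x < o2.n, o2.at' x = true :=
  all_of_chunks (n := 256) [(0, 150), (150, 106)]
    (by
      intro c hc
      simp only [List.mem_cons, List.not_mem_nil, or_false] at hc
      rcases hc with rfl | rfl
      exacts [o2_ok0, o2_ok1])
    (by decide +kernel)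

theorem o2_inR : ∀ x ∈ o2.gens, InR x := inR_p2

theorem o3a_at : ∀ x < o3a.n, o3a.at' x = true :=
  all_of_chunks (n := 3) [(0, 3)]
    (by
      intro c hc
      simp only [List.mem_cons, List.not_mem_nil, or_false] at hc
      subst hc
      exact o3a_ok0)
    (by decide +kernel)

theorem o3a_inR : ∀ x ∈ o3a.gens, InR x := inR_p3

theorem o3b_at : ∀ x < o3b.n, o3b.at' x = true :=
  all_of_chunks (n := 729) [(0, 150), (150, 150), (300, 150), (450, 150), (600, 129)]
    (by
      intro c hc
      simp only [List.mem_cons, List.not_mem_nil, or_false] at hc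
      rcases hc with rfl | rfl | rfl | rfl | rfl
      exacts [o3b_ok0, o3b_ok1, o3b_ok2, o3b_ok3, o3b_ok4])
    (by decide +kernel)

theorem o3b_inR : ∀ x ∈ o3b.gens, InR x := inR_p3

theorem o11_at : ∀ x < o11.n, o11.at' x = true :=
  all_of_chunks (n := 22) [(0, 22)]
    (by
      intro c hc
      simp only [List.mem_cons, List.not_mem_nil, or_false] at hc
      subst hc
      exact o11_ok0)
    (by decide +kernel)

theorem o11_inR : ∀ x ∈ o11.gens, InR x := (inR_of_slpOK inR_baseG slp3)

theorem o37_at : ∀ x < o37.n, o37.at' x = true :=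
  all_of_chunks (n := 37) [(0, 37)]
    (by
      intro c hc
      simp only [List.mem_cons, List.not_mem_nil, or_false] at hc
      subst hc
      exact o37_ok0)
    (by decide +kernel)

theorem o37_inR : ∀ x ∈ o37.gens, InR x := (inR_of_slpOK inR_baseG slp4)

theorem o67_at : ∀ x < o67.n, o67.at' x = true :=
  all_of_chunks (n := 67) [(0, 67)]
    (by
      intro c hc
      simp only [List.mem_cons, List.not_mem_nil, or_false] at hc
      subst hc
      exact o67_ok0)
    (by decide +kernel)

theorem o67_inR : ∀ x ∈ o67.gens, InR x := (inR_of_slpOK inR_baseG slp5)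

theorem two_dvd : 256 ∣ Nat.card rho.range := o2.n_dvd (by decide) o2_inR o2_at

theorem eleven_dvd : 11 ∣ Nat.card rho.range :=
  (by norm_num : 11 ∣ 22).trans (o11.n_dvd (by decide) o11_inR o11_at)

theorem thirtySeven_dvd : 37 ∣ Nat.card rho.range := o37.n_dvd (by decide) o37_inR o37_at

theorem sixtySeven_dvd : 67 ∣ Nat.card rho.range := o67.n_dvd (by decide) o67_inR o67_at

theorem three_dvd : 2187 ∣ Nat.card rho.range := by
  have hle : o3a.grp ≤ o3b.grp := by
    rw [Orb.grp, Subgroup.closure_le]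
    rintro _ ⟨k, hk, rfl⟩
    exact Subgroup.subset_closure ⟨k, lt_of_lt_of_le hk (by decide), rfl⟩
  have hfix : ∀ t ∈ o3a.grp, t • toW (o3b.v 0) = toW (o3b.v 0) := by
    intro t ht
    induction ht using Subgroup.closure_induction with
    | mem t ht =>
      obtain ⟨k, hk, rfl⟩ := ht
      obtain rfl : k = 0 := Nat.lt_one_iff.1 hk
      have hv : vcan (o3b.v 0) = true := by decide +kernel
      exact (vecAct_den_inv (A := o3b.g 0) hv (inR_getD o3b_inR 0).1).trans
        (congrArg toW (Nat.eq_of_beq_eq_true o3b_fix))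
    | one => exact one_smul _ _
    | mul s t _ _ hs ht => rw [mul_smul, ht, hs]
    | inv t _ ht => exact (eq_inv_smul_iff.2 ht).symm
  have h1 := o3b.mul_dvd (by decide) o3b_inR o3b_at o3a.grp hle hfix
  have h2 := o3a.mul_dvd (by decide) o3a_inR o3a_at ⊥ bot_le
    (fun t ht => by rw [Subgroup.mem_bot.1 ht]; exact one_smul _ _)
  rw [Subgroup.card_bot, mul_one] at h2
  exact (dvd_trans (by decide : 2187 ∣ o3b.n * o3a.n) (mul_dvd_mul_left _ h2)).trans
    (h1.trans (Subgroup.card_dvd_of_le (o3b.grp_le o3b_inR)))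

theorem g2_dvd : 5859000000 ∣ Nat.card rho.range := by
  haveI := LyG2.isSimple_K44
  obtain ⟨e⟩ := LyG2.exists_equiv
  let f : LyG2.K44 →* GL111 := rho.comp (LyG2.toK LyG2.flY_holds)
  have hinj : Function.Injective f := by
    rw [← MonoidHom.ker_eq_bot_iff]
    refine (Subgroup.Normal.eq_bot_or_eq_top inferInstance).resolve_right fun h => ?_
    have : LyG2.kgen 0 ∈ f.ker := by rw [h]; trivial
    rw [MonoidHom.mem_ker, MonoidHom.comp_apply, LyG2.toK_of] at this
    have ha : rho (PresentedGroup.of Ly.Gen.a) ≠ 1 := fun h1 => fa_ne (by rw [← rho_of]; exact h1)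
    exact ha this
  have hc : Nat.card f.range = 5859000000 := by
    rw [← Nat.card_congr (MonoidHom.ofInjective hinj).toEquiv, Nat.card_congr e.toEquiv,
      Cfsg.Agent.S1059.result (ZMod.card 5)]
    norm_num
  rw [← hc]
  exact Subgroup.card_dvd_of_le (by
    rintro _ ⟨x, rfl⟩
    exact ⟨_, rfl⟩)

/-- the order of Ly divides the order of the image -/
theorem card_dvd_range : 51765179004000000 ∣ Nat.card rho.range := by
  have h5 : 15625 * 7 * 31 ∣ Nat.card rho.range := (by norm_num : _ ∣ 5859000000).trans g2_dvd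
  have a := Nat.Coprime.mul_dvd_of_dvd_of_dvd (by norm_num) two_dvd three_dvd
  have b := Nat.Coprime.mul_dvd_of_dvd_of_dvd (by norm_num) a h5
  have c := Nat.Coprime.mul_dvd_of_dvd_of_dvd (by norm_num) b eleven_dvd
  have d := Nat.Coprime.mul_dvd_of_dvd_of_dvd (by norm_num) c thirtySeven_dvd
  have e := Nat.Coprime.mul_dvd_of_dvd_of_dvd (by norm_num) d sixtySeven_dvd
  exact (by norm_num : 51765179004000000 ∣ 256 * 2187 * (15625 * 7 * 31) * 11 * 37 * 67).trans e

end Cfsg.Agent.H27.LyRep
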