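import Cfsg.Agent.H27.LyRep.Card

/-!
The presented Lyons group is simple. A normal subgroup containing `⟨a, b, c, d⟩` is everything; one
meeting it trivially would act regularly on the cosets, so its elements of the five prime orders would
lie in four suborbits.
-/

set_option autoImplicit false
set_option maxRecDepth 100000
set_option linter.style.haveILetI false

namespace Cfsg.Agent.H27.LyRep

open Cfsg.Agent.H34.Ly
open Cfsg.Spor

local instance : Fact (Nat.Prime 5) := ⟨by norm_num⟩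

/-- the coset of `⟨a, b, c, d⟩` itself -/
noncomputable abbrev pY : GY ⧸ baseY.H := baseY.cs 1

theorem exists_Gam {h : GY} (hh : h ∈ LyG2.H4) : ∃ m ∈ baseY.imgSub, baseY.Gam m = h := by
  have hsub : LyG2.H4 ≤ baseY.pairs.map (MonoidHom.fst GY M7) := by
    rw [LyG2.H4, MonoidHom.map_closure, Subgroup.closure_le]
    rintro _ ⟨x, hx, rfl⟩
    have hm : ∀ i < 8, baseY.gl i ∈ baseY.pairs.map (MonoidHom.fst GY M7) := fun i hi =>
      ⟨(baseY.gl i, den (baseY.ml i)), Subgroup.subset_closure ⟨i, hi, rfl⟩, rfl⟩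
    rcases hx with rfl | rfl | rfl | rfl
    · exact hm 0 (by norm_num)
    · exact hm 1 (by norm_num)
    · exact hm 2 (by norm_num)
    · exact hm 3 (by norm_num)
  obtain ⟨⟨g, m⟩, hp, rfl⟩ := hsub hh
  exact ⟨m, baseY.mem_imgSub.2 ⟨g, hp⟩, baseY.Gam_eq hp⟩

theorem mem_orbC_iff {i : ℕ} {y : GY ⧸ baseY.H} :
    y ∈ orbC baseY gY i ↔ ∃ h ∈ LyG2.H4, y = baseY.cs (gY i * h) := by
  constructor
  · rintro ⟨m, rfl⟩; exact ⟨_, baseY.Gam_mem m.2, rfl⟩
  · rintro ⟨h, hh, rfl⟩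
    obtain ⟨m, hm, rfl⟩ := exists_Gam hh
    exact ⟨⟨m, hm⟩, rfl⟩

theorem cs_eq (g : GY) : baseY.cs g = QuotientGroup.mk g⁻¹ := rfl

theorem cover_Y (y : GY ⧸ baseY.H) : ∃ i < 5, y ∈ orbC baseY gY i :=
  orbC_cover baseY gY rholdY.g0 5 (by norm_num) rdata.uI rholdY.vu.2 zinvY gensY hZY y

theorem orb_zero : orbC baseY gY 0 ⊆ {pY} := by
  intro y hy
  obtain ⟨h, hh, rfl⟩ := mem_orbC_iff.1 hy
  rw [rholdY.g0, one_mul, Set.mem_singleton_iff]
  exact baseY.cs_of_mem hh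

/-- the bounds on the lengths of the suborbits -/
def sublen : ℕ → ℕ
  | 0 => 1
  | 1 => 19530
  | 2 => 968750
  | 3 => 5812500
  | _ => 2034375

theorem orb_le (i : ℕ) (hi : i < 5) :
    (orbC baseY gY i).Finite ∧ (orbC baseY gY i).ncard ≤ sublen i := by
  interval_cases i
  · exact ⟨(Set.finite_singleton _).subset orb_zero,
      (Set.ncard_le_ncard orb_zero (Set.finite_singleton _)).trans (Set.ncard_singleton _).le⟩
  · obtain ⟨f, c⟩ := card_orbC baseY gY 1 _ tsub1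
    rw [Nat.card_coe_set_eq] at c
    exact ⟨f, le_of_le_of_eq ((Nat.le_div_iff_mul_le (by norm_num)).2 c) (by norm_num [sublen])⟩
  · obtain ⟨f, c⟩ := card_orbC baseY gY 2 _ tsub2
    rw [Nat.card_coe_set_eq] at c
    exact ⟨f, le_of_le_of_eq ((Nat.le_div_iff_mul_le (by norm_num)).2 c) (by norm_num [sublen])⟩
  · obtain ⟨f, c⟩ := card_orbC baseY gY 3 _ tsub3
    rw [Nat.card_coe_set_eq] at c
    exact ⟨f, le_of_le_of_eq ((Nat.le_div_iff_mul_le (by norm_num)).2 c) (by norm_num [sublen])⟩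
  · obtain ⟨f, c⟩ := card_orbC baseY gY 4 _ tsub4
    rw [Nat.card_coe_set_eq] at c
    exact ⟨f, le_of_le_of_eq ((Nat.le_div_iff_mul_le (by norm_num)).2 c) (by norm_num [sublen])⟩

theorem ncard_biUnion_le (J : Finset ℕ) (hJ : ∀ i ∈ J, i < 5) :
    (⋃ i ∈ J, orbC baseY gY i).Finite ∧
      (⋃ i ∈ J, orbC baseY gY i).ncard ≤ ∑ i ∈ J, sublen i := by
  induction J using Finset.induction_on with
  | empty => simp
  | insert a J ha ih =>
    obtain ⟨f, c⟩ := ih fun i hi => hJ i (Finset.mem_insert_of_mem hi)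
    obtain ⟨fa, ca⟩ := orb_le a (hJ a (Finset.mem_insert_self a J))
    rw [Finset.set_biUnion_insert, Finset.sum_insert ha]
    exact ⟨fa.union f, (Set.ncard_union_le _ _).trans (add_le_add ca c)⟩

/-- possible sizes of an invariant set of cosets containing the base one -/
theorem sublen_dvd : ∀ J ∈ (Finset.range 5).powerset, 0 ∈ J →
    (∑ i ∈ J, sublen i) ∣ 8835156 → J = {0} ∨ J = Finset.range 5 := by decide +kernel

/-- An `H`-invariant set of cosets containing the base one, of size dividing the index, is trivial. -/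
theorem invariant_set (S : Set (GY ⧸ baseY.H)) (hp : pY ∈ S)
    (hS : ∀ h ∈ LyG2.H4, ∀ g : GY, baseY.cs g ∈ S → baseY.cs (g * h) ∈ S)
    (hd : S.ncard ∣ 8835156) : S.ncard ≤ 1 ∨ S.ncard = 8835156 := by
  classical
  haveI : Finite GY := finite_ly
  let J := (Finset.range 5).filter fun i => (orbC baseY gY i ∩ S).Nonempty
  have hin : ∀ i ∈ J, orbC baseY gY i ⊆ S := by
    intro i hi y hy
    obtain ⟨x, hx, hxS⟩ := (Finset.mem_filter.1 hi).2
    obtain ⟨h, hh, rfl⟩ := mem_orbC_iff.1 hx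
    obtain ⟨k, hk, rfl⟩ := mem_orbC_iff.1 hy
    have := hS (h⁻¹ * k) (mul_mem (inv_mem hh) hk) _ hxS
    rwa [mul_assoc, mul_inv_cancel_left] at this
  have hSsub : S ⊆ ⋃ i ∈ J, orbC baseY gY i := fun y hy => by
    obtain ⟨i, hi, hyi⟩ := cover_Y y
    exact Set.mem_biUnion (Finset.mem_filter.2 ⟨Finset.mem_range.2 hi, y, hyi, hy⟩) hyi
  have hCsub : Sᶜ ⊆ ⋃ i ∈ Finset.range 5 \ J, orbC baseY gY i := fun y hy => by
    obtain ⟨i, hi, hyi⟩ := cover_Y y
    exact Set.mem_biUnion (Finset.mem_sdiff.2 ⟨Finset.mem_range.2 hi, fun h => hy (hin i h hyi)⟩) hyi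
  have hJ5 : J ⊆ Finset.range 5 := Finset.filter_subset _ _
  obtain ⟨fJ, cJ⟩ := ncard_biUnion_le J fun i hi => Finset.mem_range.1 (hJ5 hi)
  obtain ⟨fC, cC⟩ := ncard_biUnion_le (Finset.range 5 \ J) fun i hi =>
    Finset.mem_range.1 (Finset.mem_sdiff.1 hi).1
  have e1 := (Set.ncard_le_ncard hSsub fJ).trans cJ
  have e2 := (Set.ncard_le_ncard hCsub fC).trans cC
  have e3 : S.ncard + Sᶜ.ncard = 8835156 := by
    rw [Set.ncard_add_ncard_compl]; exact index_H4
  have e4 : (∑ i ∈ Finset.range 5 \ J, sublen i) + ∑ i ∈ J, sublen i = 8835156 := by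
    rw [Finset.sum_sdiff hJ5]; rfl
  have h0 : 0 ∈ J := by
    obtain ⟨i, hi, hyi⟩ := cover_Y pY
    rcases Nat.eq_zero_or_pos i with rfl | hpos
    · exact Finset.mem_filter.2 ⟨Finset.mem_range.2 hi, pY, hyi, hp⟩
    · refine Finset.mem_filter.2 ⟨Finset.mem_range.2 (by norm_num), baseY.cs (gY 0 * 1),
        mem_orbC_iff.2 ⟨1, one_mem _, rfl⟩, ?_⟩
      rw [rholdY.g0, one_mul, cs_eq, inv_one]
      exact hp
  have eS : S.ncard = ∑ i ∈ J, sublen i := by omega
  rcases sublen_dvd J (Finset.mem_powerset.2 hJ5) h0 (eS ▸ hd) with h | h <;> rw [eS, h]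
  · exact Or.inl le_rfl
  · exact Or.inr rfl

theorem primes_inj : ∀ q q' : Fin 5,
    [2, 3, 11, 37, 67].getD (q : ℕ) 0 = [2, 3, 11, 37, 67].getD (q' : ℕ) 0 → q = q' := by decide

/-- A normal subgroup meeting `⟨a, b, c, d⟩` trivially is trivial. -/
theorem eq_bot_of_inf (N : Subgroup GY) [N.Normal] (hNH : N ⊓ LyG2.H4 = ⊥) : N = ⊥ := by
  classical
  haveI : Finite GY := finite_ly
  have hcard : Nat.card N ∣ 8835156 := by
    have hinj : ((QuotientGroup.mk' N).comp LyG2.H4.subtype).ker = ⊥ := by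
      rw [eq_bot_iff]
      intro x hx
      have hx' : (x : GY) ∈ N := (QuotientGroup.eq_one_iff _).1 hx
      exact Subgroup.mem_bot.2 (Subtype.ext (Subgroup.mem_bot.1 (hNH ▸ ⟨hx', x.2⟩)))
    have h1 : Nat.card LyG2.H4 ∣ Nat.card (GY ⧸ N) :=
      Subgroup.card_dvd_of_injective _ ((MonoidHom.ker_eq_bot_iff _).1 hinj)
    have h2 : LyG2.H4.index * Nat.card LyG2.H4 = Nat.card (GY ⧸ N) * Nat.card N := by
      rw [LyG2.H4.index_mul_card, N.card_eq_card_quotient_mul_card_subgroup]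
    rw [index_H4] at h2
    obtain ⟨c, hc⟩ := h1
    rw [hc, mul_comm 8835156, mul_assoc] at h2
    exact Dvd.intro_left c (Nat.eq_of_mul_eq_mul_left Nat.card_pos h2).symm
  let f : N → GY ⧸ baseY.H := fun n => baseY.cs n
  have hfinj : Function.Injective f := by
    intro n m h
    have h' : ((n : GY)⁻¹)⁻¹ * (m : GY)⁻¹ ∈ LyG2.H4 := QuotientGroup.eq.1 h
    rw [inv_inv] at h'
    have : (n : GY) * (m : GY)⁻¹ ∈ N ⊓ LyG2.H4 :=
      Subgroup.mem_inf.2 ⟨mul_mem n.2 (inv_mem m.2), h'⟩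
    rw [hNH, Subgroup.mem_bot, mul_inv_eq_one] at this
    exact Subtype.ext this
  have hS : (Set.range f).ncard = Nat.card N := Set.ncard_range_of_injective hfinj
  have hinv : ∀ h ∈ LyG2.H4, ∀ g : GY, baseY.cs g ∈ Set.range f → baseY.cs (g * h) ∈ Set.range f := by
    rintro h hh g ⟨m, hm⟩
    refine ⟨⟨h⁻¹ * m * h, Subgroup.Normal.conj_mem' inferInstance _ m.2 _⟩, ?_⟩
    show baseY.cs (h⁻¹ * (m : GY) * h) = _
    rw [← baseY.cs_mul hm h, cs_eq, cs_eq, mul_assoc, mul_inv_rev, inv_inv]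
    exact QuotientGroup.mk_mul_of_mem _ hh
  rcases invariant_set (Set.range f) ⟨1, congrArg baseY.cs (OneMemClass.coe_one N)⟩ hinv (hS ▸ hcard) with h | h
  · exact Subgroup.eq_bot_of_card_le N (hS ▸ h)
  · exfalso
    have hsuborb : ∀ q : Fin 5, ∃ n : N, ∃ i : ℕ, i ≠ 0 ∧ i < 5 ∧
        orderOf n = [2, 3, 11, 37, 67].getD q 0 ∧ baseY.cs (n : GY) ∈ orbC baseY gY i := by
      intro q
      have hq : ([2, 3, 11, 37, 67].getD q 0).Prime ∧ [2, 3, 11, 37, 67].getD q 0 ∣ Nat.card N := by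
        rw [← hS, h]
        fin_cases q <;> exact ⟨by norm_num, by norm_num⟩
      haveI : Fact ([2, 3, 11, 37, 67].getD q 0).Prime := ⟨hq.1⟩
      obtain ⟨n, hn⟩ := exists_prime_orderOf_dvd_card' (G := N) ([2, 3, 11, 37, 67].getD q 0) hq.2
      obtain ⟨i, hi, hni⟩ := cover_Y (baseY.cs (n : GY))
      refine ⟨n, i, ?_, hi, hn, hni⟩
      rintro rfl
      have h1 : (n : GY) = 1 := by
        have e : f n = f 1 := (Set.mem_singleton_iff.1 (orb_zero hni)).trans
          (congrArg baseY.cs (OneMemClass.coe_one N)).symm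
        exact congrArg Subtype.val (hfinj e)
      have : orderOf n = 1 := orderOf_eq_one_iff.2 (Subtype.ext h1)
      exact hq.1.one_lt.ne' (hn ▸ this)
    choose n i hi0 hi5 hord horb using hsuborb
    obtain ⟨q, q', hne, he⟩ := Fintype.exists_ne_map_eq_of_card_lt
      (fun q => (⟨i q - 1, by have := hi5 q; have := hi0 q; omega⟩ : Fin 4)) (by simp)
    have heq : i q = i q' := by
      have h' : i q - 1 = i q' - 1 := Fin.ext_iff.1 he
      have := hi0 q; have := hi0 q'; omega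
    obtain ⟨k, hk, ek⟩ := mem_orbC_iff.1 (horb q)
    obtain ⟨k', hk', ek'⟩ := mem_orbC_iff.1 (heq ▸ horb q')
    have e : baseY.cs ((k⁻¹ * k')⁻¹ * (n q : GY) * (k⁻¹ * k')) = baseY.cs (n q' : GY) := by
      have e1 : baseY.cs ((n q : GY) * (k⁻¹ * k')) = baseY.cs (n q' : GY) := by
        rw [baseY.cs_mul ek, ek', mul_assoc, mul_inv_cancel_left]
      rw [← e1, mul_assoc, cs_eq, cs_eq, mul_inv_rev _ ((n q : GY) * _), inv_inv]
      exact QuotientGroup.mk_mul_of_mem _ (mul_mem (inv_mem hk) hk')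
    have hm : (k⁻¹ * k')⁻¹ * (n q : GY) * (k⁻¹ * k') ∈ N :=
      Subgroup.Normal.conj_mem' inferInstance _ (n q).2 _
    have : (k⁻¹ * k')⁻¹ * (n q : GY) * (k⁻¹ * k') = (n q' : GY) :=
      congrArg Subtype.val (hfinj (a₁ := ⟨_, hm⟩) e)
    have ho : orderOf (n q') = orderOf (n q) := by
      rw [← Subgroup.orderOf_coe, ← Subgroup.orderOf_coe, ← this]
      rw [show (k⁻¹ * k')⁻¹ * (n q : GY) * (k⁻¹ * k') = MulAut.conj (k⁻¹ * k')⁻¹ (n q : GY) by
        simp [MulAut.conj_apply, mul_assoc],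
        MulEquiv.orderOf_eq]
    rw [hord, hord] at ho
    exact hne (primes_inj _ _ ho.symm)

/-- exponent sum of `z` -/
def expz : FreeGroup (Fin 5) →* Multiplicative ℤ :=
  FreeGroup.lift fun i => Multiplicative.ofAdd (if i = 4 then 1 else 0 : ℤ)

theorem expz_u : expz (tau (Ly.extra.getD 80 1)) = Multiplicative.ofAdd (2 : ℤ) := by decide +kernel

theorem expz_three : expz (tau (Ly.extra.getD 81 1)) = Multiplicative.ofAdd (3 : ℤ) := by
  decide +kernel

/-- The presented Lyons group is simple. -/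
theorem isSimple_ly : IsSimpleGroup Cfsg.Spor.Ly := by
  haveI : Finite GY := finite_ly
  haveI : Nontrivial GY := ⟨⟨_, 1, of_a_ne_one⟩⟩
  refine ⟨fun N hN => ?_⟩
  by_cases hNH : N ⊓ LyG2.H4 = ⊥
  · exact Or.inl (eq_bot_of_inf N hNH)
  right
  obtain ⟨e⟩ := LyG2.iso_of_ne_one of_a_ne_one
  haveI : IsSimpleGroup (Cfsg.Lie.chevG2.group (ZMod 5)) :=
    Cfsg.Agent.H38.Ree.G2_simple (by rw [ZMod.card]; norm_num)
  haveI : Nontrivial LyG2.H4 := e.toEquiv.nontrivial
  haveI : IsSimpleGroup LyG2.H4 :=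
    IsSimpleGroup.isSimpleGroup_of_surjective e.symm.toMonoidHom e.symm.surjective
  haveI := hN
  have hHN : LyG2.H4 ≤ N := by
    rcases (Subgroup.Normal.subgroupOf hN LyG2.H4).eq_bot_or_eq_top with h | h
    · exact absurd (disjoint_iff.1 (Subgroup.subgroupOf_eq_bot.1 h)) hNH
    · exact Subgroup.subgroupOf_eq_top.1 h
  let χ : GY →* GY ⧸ N := QuotientGroup.mk' N
  let ζ := χ (psi 4)
  have hlow : ∀ i : Fin 5, i ≠ 4 → psi i ∈ LyG2.H4 := by
    intro i hi
    have h : ∀ x ∈ ({Ly.a, Ly.b, Ly.c, Ly.d} : Set (FreeGroup Ly.Gen)), mkY x ∈ LyG2.H4 :=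
      fun x hx => Subgroup.mem_map_of_mem _ (Subgroup.subset_closure hx)
    fin_cases i
    · exact h Ly.a (by simp)
    · exact h Ly.b (by simp)
    · exact h Ly.c (by simp)
    · exact h Ly.d (by simp)
    · exact absurd rfl hi
  have hχ : χ.comp evY = (zpowersHom _ ζ).comp expz := by
    refine FreeGroup.ext_hom _ _ fun i => ?_
    simp only [MonoidHom.comp_apply, evY, expz, FreeGroup.lift_apply_of]
    by_cases hi : i = 4
    · subst hi; simp [ζ]
    · simpa [hi, χ] using hHN (hlow i hi)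
  have h2 : ζ ^ (2 : ℤ) = 1 := by
    have := DFunLike.congr_fun hχ (tau (Ly.extra.getD 80 1))
    rw [MonoidHom.comp_apply, MonoidHom.comp_apply, ev_rel, map_one, expz_u] at this
    simpa [zpowersHom_apply] using this.symm
  have h3 : ζ ^ (3 : ℤ) = 1 := by
    have := DFunLike.congr_fun hχ (tau (Ly.extra.getD 81 1))
    rw [MonoidHom.comp_apply, MonoidHom.comp_apply, ev_rel, map_one, expz_three] at this
    simpa [zpowersHom_apply] using this.symm
  have hz : psi 4 ∈ N := by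
    rw [← QuotientGroup.eq_one_iff]
    show ζ = 1
    rw [← zpow_one ζ, show (1 : ℤ) = 3 - 2 by norm_num, zpow_sub, h2, h3]; simp
  rw [eq_top_iff, ← gensY, Subgroup.closure_le]
  rintro x (rfl | ⟨a, ha, rfl⟩)
  · show evY (fl 8) ∈ N
    simpa [evY, fl] using hz
  · exact hHN (baseY.gl_mem a ha)

end Cfsg.Agent.H27.LyRep
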