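import Cfsg.Agent.H27.LyRep.Orbit
import Cfsg.Agent.H27.LyRep.ElemData

/-!
Straight line programs (generated).
-/

set_option autoImplicit false
set_option maxRecDepth 100000
set_option Elab.async false

namespace Cfsg.Agent.H27.LyRep

/-- program 0 -/
def ops0 : List (ℕ × ℕ) := [(0,4), (1,3), (5,6), (7,2), (8,4), (9,3), (4,1), (4,0), (11,12), (10,13), (14,0), (0,2), (15,16), (17,16), (18,4), (3,4), (19,20), (0,0), (22,22), (21,21), (24,24), (24,25), (25,25), (26,27), (23,28), (23,21), (29,30), (31,31), (32,32), (33,33), (33,34), (21,35), (16,8), (37,13), (38,0), (2,4), (0,1), (3,41), (40,42), (39,43), (44,16), (45,3), (46,43), (47,0), (48,48), (48,49), (49,49), (50,51), (51,51), (53,53), (54,54), (52,55), (23,56), (23,48), (57,58), (59,59), (60,60), (61,61), (62,62), (63,63), (59,64), (48,65), (36,66), (67,36), (68,36), (43,20), (70,4), (71,43), (72,13), (73,4), (74,4), (75,1), (76,1), (77,77), (77,78), (78,78), (80,80), (81,81), (79,82), (23,83), (23,77), (84,85), (86,86), (77,87), (69,88), (8,13), (90,0), (91,0), (92,16), (93,2), (94,1), (95,3), (96,3), (97,97), (98,98), (99,99), (100,100), (99,101), (23,102), (23,97),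 (103,104), (105,105), (97,106), (89,107), (108,107), (109,66), (88,66), (111,107), (112,107), (113,107), (114,88), (115,66), (116,107), (117,117), (117,118), (110,110), (120,120), (121,121), (122,122), (110,123), (119,124), (119,110), (125,126), (127,127), (128,128), (129,129), (128,130), (110,131), (16,2), (133,1), (134,4), (135,4), (136,43), (137,0), (138,13), (139,8), (140,140), (141,141), (142,142), (140,143), (143,143), (145,145), (144,146), (23,147), (23,140), (148,149), (150,150), (150,151), (151,151), (152,153), (153,153), (154,155), (140,156), (13,0), (158,3), (159,8), (160,0), (161,0), (162,13), (163,2), (164,13), (165,165), (165,166), (166,166), (167,168), (168,168), (170,170), (169,171), (23,172), (23,165), (173,174), (175,175), (165,176), (157,177), (178,88), (179,177), (180,157), (181,107), (182,157), (183,157), (184,184), (184,185), (185,185), (186,187), (119,188), (119,184), (189,190), (191,191), (192,192), (193,193), (192,194), (184,195), (132,196), (177,66), (198,177), (199,157), (200,157), (201,66), (202,66), (203,88), (204,204), (205,205), (204,206), (119,207), (119,204), (208,209), (210,210), (204,211),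 (197,212), (157,36), (214,177), (215,88), (216,157), (217,36), (218,177), (219,157), (220,220), (221,221), (220,222), (222,222), (224,224), (223,225), (119,226), (119,220), (227,228), (229,229), (229,230), (230,230), (231,232), (220,233), (213,234), (235,196), (212,132), (237,196), (234,132), (239,196), (240,212), (241,212), (242,234)]

theorem slp0 : slpOK baseG ops0 [236, 238, 243] [w0, w1, w2] = true := by decide +kernel

/-- program 1 -/
def ops1 : List (ℕ × ℕ) := [(2,4), (0,1), (3,6), (5,7), (3,4), (8,9), (4,1), (4,0), (11,12), (10,13), (0,2), (14,15), (16,0), (17,4), (18,3), (19,2), (20,13), (0,4), (1,3), (22,23), (24,2), (15,25), (26,13), (27,0), (28,8), (29,15), (30,3), (31,8), (32,0), (0,0), (34,34), (33,33), (33,36), (36,36), (37,38), (38,38), (40,40), (41,41), (39,42), (35,43), (35,33), (44,45), (46,46), (47,47), (48,48), (49,49), (50,50), (46,51), (33,52), (15,2), (54,1), (55,4), (56,4), (57,8), (58,0), (59,13), (60,25), (61,61), (62,62), (63,63), (61,64), (64,64), (66,66), (65,67), (35,68), (35,61), (69,70), (71,71), (71,72), (72,72), (73,74), (74,74), (75,76), (61,77), (53,78), (79,78), (80,53), (25,4), (82,3),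 (83,13), (84,0), (85,15), (86,15), (87,4), (88,9), (89,89), (90,90), (90,91), (91,91), (92,93), (35,94), (35,89), (95,96), (97,97), (98,98), (99,99), (99,100), (89,101), (53,102), (103,103), (103,104), (104,104), (105,106), (106,106), (108,108), (109,109), (107,110), (81,111), (25,13), (113,0), (114,0), (115,15), (116,2), (117,1), (118,3), (119,3), (120,120), (121,121), (122,122), (123,123), (122,124), (35,125), (35,120), (126,127), (128,128), (120,129), (130,78), (131,53), (132,53), (13,0), (134,3), (135,25), (136,0), (137,0), (138,13), (139,2), (140,13), (141,141), (141,142), (142,142), (143,144), (144,144), (146,146), (145,147), (35,148), (35,141), (149,150), (151,151), (141,152), (53,153), (10,4), (155,8), (156,13), (157,4), (158,4), (159,1), (160,1), (161,161), (161,162), (162,162), (164,164), (165,165), (163,166), (35,167), (35,161), (168,169), (170,170), (161,171), (154,172), (173,173), (173,174), (174,174), (175,176), (133,177), (112,178), (78,102), (180,172), (181,53), (182,130), (153,53), (184,53), (185,172), (186,186), (187,187), (186,188), (183,189), (179,190), (78,153), (192,153), (193,172), (194,53), (102,172),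 (196,196), (197,197), (198,198), (196,199), (199,199), (201,201), (200,202), (195,203), (191,204), (205,205), (21,21), (207,207), (208,208), (209,209), (210,210), (206,211), (206,21), (212,213), (214,214), (214,215), (215,215), (216,217), (217,217), (218,219), (21,220), (9,1), (222,9), (223,25), (224,4), (225,25), (226,8), (227,0), (228,25), (229,229), (230,230), (229,231), (231,231), (232,233), (233,233), (234,235), (206,236), (206,229), (237,238), (239,239), (239,240), (240,240), (241,242), (229,243), (221,244), (8,25), (246,0), (247,15), (248,15), (249,0), (250,8)]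

theorem slp1 : slpOK baseG ops1 [2, 3, 1, 8, 9, 13, 15, 25, 53, 78, 79, 102, 112, 153, 172, 178, 190, 206, 221, 244, 245, 246, 251] [mat 4, mat 6, mat 2, w3, w4, w5, w6, w7, w8, w9, w10, w11, w12, w13, w14, w15, w16, w17, w18, w19, w20, w21, w22] = true := by decide +kernel

/-- program 2 -/
def ops2 : List (ℕ × ℕ) := [(22,2), (23,3), (24,24), (25,25), (26,26), (27,27), (26,28), (17,29), (17,24), (30,31), (32,32), (32,33), (33,33), (34,35), (35,35), (36,37), (24,38), (20,39), (21,2), (41,2), (42,7), (43,0), (44,0), (45,7), (46,4), (47,47), (48,48), (49,49), (17,50), (17,47), (51,52), (53,53), (54,54), (55,55), (54,56), (47,57), (40,58), (59,39), (18,39), (61,18), (62,62), (63,63), (62,64), (64,64), (66,66), (65,67), (60,68), (58,39), (7,0), (71,5), (72,4), (73,2), (74,3), (75,7), (76,4), (77,0), (78,78), (79,79), (80,80), (81,81), (80,82), (17,83), (17,78), (84,85), (86,86), (86,87), (87,87), (88,89), (78,90), (70,91), (6,3), (93,1), (94,3), (95,1), (96,6), (97,5), (98,6), (99,0), (100,100), (100,101), (101,101), (102,103), (17,104), (17,100), (105,106), (107,107), (108,108), (109,109), (110,110), (111,111), (107,112),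 (100,113), (92,114), (115,114), (58,91), (117,39), (118,91), (119,119), (120,120), (119,121), (121,121), (123,123), (122,124), (116,125), (69,126), (11,9), (128,14), (129,14), (130,8), (10,13), (132,132), (132,133), (133,133), (134,135), (131,136), (127,137), (138,16), (139,139), (139,140), (140,140), (141,142), (142,142), (143,144), (117,19), (146,114), (147,58), (39,58), (149,39), (150,150), (150,151), (151,151), (152,153), (153,153), (155,155), (154,156), (148,157), (158,16), (159,12), (160,126), (161,16), (162,137), (15,137), (19,18), (165,39), (166,19), (167,58), (19,19), (169,18), (170,170), (171,171), (172,172), (171,173), (168,174), (164,175), (176,158), (177,137), (178,178), (178,179), (179,179), (180,181), (160,158), (183,16), (184,12), (185,137), (186,186), (187,187), (188,188), (187,189), (182,190), (163,191), (192,192), (193,193), (145,194), (145,192), (195,196), (69,175), (198,16), (199,175), (200,137), (201,175), (202,175), (203,15), (204,16), (16,69), (206,15), (207,126), (208,69), (209,126), (210,158), (211,158), (212,212), (213,213), (214,214), (213,215), (205,216), (16,15), (218,137), (219,12), (220,12),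 (221,137), (222,126), (223,16), (224,175), (225,15), (226,12), (137,12), (228,175), (229,69), (230,12), (231,137), (232,12), (233,175), (234,69), (235,126), (236,236), (236,237), (237,237), (238,239), (227,240), (241,241), (242,242), (241,243), (145,244), (145,241), (245,246), (175,69), (248,158), (249,16), (250,175), (251,16), (252,126), (12,69), (254,158), (255,15), (256,69), (257,16), (258,258), (259,259), (260,260), (261,261), (260,262), (253,263), (242,192), (265,264), (266,192), (267,217), (268,192)]

theorem slp2 : slpOK ([mat 4, mat 6, mat 2, w3, w4, w5, w6, w7, w8, w9, w10, w11, w12, w13, w14, w15, w16, w17, w18, w19, w20, w21, w22]) ops2 [197, 247, 269] [w23, w24, w25] = true := by decide +kernel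

/-- program 3 -/
def ops3 : List (ℕ × ℕ) := [(0,1), (5,2), (6,0), (7,2), (8,4), (9,3), (10,4), (11,1), (12,2), (13,2)]

theorem slp3 : slpOK baseG ops3 [14] [w26] = true := by decide +kernel

/-- program 4 -/
def ops4 : List (ℕ × ℕ) := [(2,1), (5,1), (6,0), (7,2), (8,0), (9,0), (10,2), (11,2), (12,1), (13,3), (14,4), (15,2), (16,1)]

theorem slp4 : slpOK baseG ops4 [17] [w27] = true := by decide +kernel

/-- program 5 -/
def ops5 : List (ℕ × ℕ) := [(4,1), (5,3), (6,0), (7,3), (8,2), (9,4), (10,4), (11,1), (12,4), (13,3)]

theorem slp5 : slpOK baseG ops5 [14] [w28] = true := by decide +kernel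

end Cfsg.Agent.H27.LyRep
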